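import Cfsg.Agent.Lib.RankSeries.Irred

/-!
# Action of the central elements on the rank one series
-/

set_option autoImplicit false

namespace Cfsg.Agent.Lib.RankSeries

open scoped ComplexConjugate
open Cfsg.Agent.Lib

attribute [-instance] MonoidHom.instPow MonoidHom.mul instOneMonoidHom MonoidHom.instCommMonoid
  MonoidHom.instInv MonoidHom.instDiv

universe u v w

theorem indFun_mul_center {G : Type u} [Group G] [Fintype G] (H : Subgroup G) (θ : H → ℂ) (z : H)
    (hz : (z : G) ∈ Subgroup.center G) {c : ℂ} (hθ : ∀ h : H, θ (z * h) = c * θ h) (g : G) :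
    indFun H θ ((z : G) * g) = c * indFun H θ g := by
  simp only [indFun]
  rw [mul_left_comm c, Finset.mul_sum _ _ c]
  congr 1
  refine Finset.sum_congr rfl fun x _ => ?_
  rw [show x⁻¹ * ((z : G) * g) * x = (z : G) * (x⁻¹ * g * x) by
    rw [← mul_assoc x⁻¹ (z : G), Subgroup.mem_center_iff.mp hz x⁻¹]; group]
  by_cases h : x⁻¹ * g * x ∈ H
  · rw [Chars.extendByZero_of_mem _ h, Chars.extendByZero_of_mem _ (H.mul_mem z.2 h)]
    exact hθ ⟨_, h⟩
  · rw [Chars.extendByZero_of_not_mem _ h, Chars.extendByZero_of_not_mem _ fun h' => h ?_, mul_zero]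
    simpa using H.mul_mem (H.inv_mem z.2) h'

/-- An irreducible constituent takes the central character of the whole. -/
theorem central_eq_of_classInner_ne {G : Type u} [Group G] [Fintype G] {f χ : G → ℂ}
    (hχ : IsIrrCharacter G χ) {z : G} (hz : z ∈ Subgroup.center G) {c : ℂ} (hc : c * c = 1)
    (hf : ∀ g, f (z * g) = c * f g) (hne : classInner f χ ≠ 0) : ∀ g, χ (z * g) = c * χ g := by
  obtain ⟨k, hk0, hk⟩ := Chars.isIrrCharacter_exists_degree_pos hχ
  have h1 : χ 1 ≠ 0 := by rw [hk]; exact_mod_cast hk0.ne'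
  have hw : ∀ g, χ (z * g) = χ z / χ 1 * χ g := fun g => by
    rw [div_mul_eq_mul_div, eq_div_iff h1]
    exact irr_mul_of_mem_center hχ hz g
  have he : c * conj (χ z / χ 1) = 1 := by
    by_contra h
    exact hne (classInner_eq_zero_of_central hf hw h)
  have hcc : conj c = c := by
    rcases mul_self_eq_one_iff.mp hc with h | h <;> simp [h]
  have : χ z / χ 1 = c := by
    have h' := congrArg conj he
    rw [map_mul, Complex.conj_conj, map_one, hcc] at h'
    calc χ z / χ 1 = c * c * (χ z / χ 1) := by rw [hc, one_mul]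
      _ = c := by rw [mul_assoc, h', mul_one]
  intro g
  rw [hw, this]

namespace Datum

variable {G : Type u} [Group G] [Fintype G] {D : Type v} [CommGroup D] [Fintype D] {K : Type w}
  [Fintype K] (Δ : Datum G D K)

theorem R_mul_center (μ : D →* ℂˣ) (a : {a : D // Δ.τ a = a}) (g : G) :
    Δ.R μ ((Δ.e (a.1, Δ.o) : G) * g) = (μ a.1 : ℂ) * Δ.R μ g :=
  indFun_mul_center _ _ _ (Δ.central a.1 a.2) (fun h => by
    show (μ (Δ.d (Δ.e (a.1, Δ.o) * h)) : ℂ) = (μ a.1 : ℂ) * μ (Δ.d h)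
    rw [map_mul, map_mul, Δ.d_e, Units.val_mul]) g

theorem piC_mul_center (θ : Δ.C →* ℂˣ) (a : {a : D // Δ.τ a = a}) (g : G) :
    Δ.piC θ ((Δ.e (a.1, Δ.o) : G) * g) = (θ (Δ.zC a) : ℂ) * Δ.piC θ g := by
  have hC : indFun Δ.C (fun c => (θ c : ℂ)) ((Δ.e (a.1, Δ.o) : G) * g) =
      (θ (Δ.zC a) : ℂ) * indFun Δ.C (fun c => (θ c : ℂ)) g :=
    indFun_mul_center _ _ (Δ.zC a) (Δ.zC_mem_center a) (fun h => by rw [map_mul, Units.val_mul]) g
  rw [piC, pi, pi, Δ.R_mul_center, Δ.R_mul_center, hC, MonoidHom.one_apply, Units.val_one,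
    Δ.compatChoice_spec θ a]
  ring

end Datum

end Cfsg.Agent.Lib.RankSeries
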