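import Cfsg.Agent.Lib.RankSeries.SLDegrees
import Cfsg.Agent.Lib.RankSeries.CentralMul
import Cfsg.Agent.Lib.Chars.PResidualDegree
import Cfsg.Agent.Lib.SL2.ToriExist
import Cfsg.Prelude.Def_DegreeGraph

/-!
# The character degrees of `SL₂` and `PSL₂`
-/

set_option autoImplicit false

namespace Cfsg.Agent.Lib.RankSeries

open Cfsg.Agent.Lib
open Cfsg.Agent.Lib.SL2

attribute [-instance] MonoidHom.instPow MonoidHom.mul instOneMonoidHom MonoidHom.instCommMonoid
  MonoidHom.instInv MonoidHom.instDiv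

universe u v

/-- A cyclic group of order greater than four has a character which is not real and takes the
value one on the involutions. -/
theorem exists_nonreal_char {A : Type u} [CommGroup A] [Finite A] [IsCyclic A]
    (h4 : 4 < Nat.card A) :
    ∃ φ : A →* ℂˣ, φ.comp invMonoidHom ≠ φ ∧ ∀ z : A, z * z = 1 → φ z = 1 := by
  obtain ⟨a, ha⟩ := IsCyclic.exists_ofOrder_eq_natCard (α := A)
  have hne : a ^ 4 ≠ 1 := fun h => by
    have := Nat.le_of_dvd (by norm_num) (orderOf_dvd_of_pow_eq_one h)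
    omega
  obtain ⟨ψ, hψ⟩ := CommGroup.exists_apply_ne_one_of_hasEnoughRootsOfUnity A ℂ hne
  refine ⟨(powMonoidHom 2 : ℂˣ →* ℂˣ).comp ψ, fun h => hψ ?_, fun z hz => ?_⟩
  · have h' := DFunLike.congr_fun h a
    simp only [MonoidHom.comp_apply, invMonoidHom_apply, powMonoidHom_apply, map_inv, inv_pow] at h'
    have : ψ a ^ 2 * ψ a ^ 2 = 1 := by nth_rw 1 [← h']; exact inv_mul_cancel _
    rw [map_pow, show (4 : ℕ) = 2 + 2 from rfl, pow_add]
    exact this
  · simp only [MonoidHom.comp_apply, powMonoidHom_apply, pow_two, ← map_mul, hz, map_one]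

variable (F : Type u) [Field F] [Fintype F]

local notation "qF" => Fintype.card F

/-- The degree of every irreducible character is among the known ones. -/
def DegreesSL (q d : ℕ) : Prop :=
  d = 1 ∨ d = q ∨ d = q + 1 ∨ d = q - 1 ∨ 2 * d = q + 1 ∨ 2 * d = q - 1

theorem charDegrees_SL_sub {d : ℕ} (hd : d ∈ charDegrees (SLtwo F)) : DegreesSL qF d := by
  classical
  obtain ⟨χ, rfl⟩ := hd
  obtain ⟨g₀, hg⟩ := exists_elliptic (F := F)
  have hm := (Chars.charDegree_spec χ).2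
  have h1 : 1 < qF := Fintype.one_lt_card
  unfold DegreesSL
  by_cases h2 : (2 : F) = 0
  · rcases even_of_degree hg h2 χ.2 hm with h | h | h | h <;> omega
  · have hodd : Odd qF := two_ne_zero_iff_odd.1 h2
    obtain ⟨μ₀, θ₀, a, a', b, b', T⟩ := exists_oddTable hg hodd
    obtain ⟨k, hk⟩ := hodd
    rcases T.of_degree χ.2 hm with h | h | h | h | h | h <;> omega

variable {F}

theorem center_trivial_of {χ : IrrCharacter (SLtwo F)}
    (h : (χ : SLtwo F → ℂ) (-1) = (χ : SLtwo F → ℂ) 1) :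
    ∀ x ∈ Subgroup.center (SLtwo F), (χ : SLtwo F → ℂ) x = (χ : SLtwo F → ℂ) 1 := fun x hx => by
  rcases (mem_center_iff_eq x).mp hx with rfl | rfl
  · rfl
  · exact h

theorem charDegree_PSL_of (χ : IrrCharacter (SLtwo F))
    (h : (χ : SLtwo F → ℂ) (-1) = (χ : SLtwo F → ℂ) 1) :
    charDegree (χ : SLtwo F → ℂ) ∈
      charDegrees (Matrix.ProjectiveSpecialLinearGroup (Fin 2) F) := by
  obtain ⟨ψ, hψ⟩ := Chars.exists_irr_quotient _ χ (center_trivial_of h)
  exact ⟨ψ, by rw [charDegree, charDegree, ← hψ]; rfl⟩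

theorem charDegrees_quotient_sub {G : Type v} [Group G] [Finite G] (N : Subgroup G) [N.Normal] :
    charDegrees (G ⧸ N) ⊆ charDegrees G := by
  rintro d ⟨ψ, rfl⟩
  exact ⟨Chars.inflate N ψ, rfl⟩

theorem charDegrees_congr {G : Type v} {H : Type u} [Group G] [Group H] [Finite G]
    (e : H ≃* G) : charDegrees H = charDegrees G := by
  ext d
  constructor
  · rintro ⟨χ, rfl⟩
    refine ⟨(Chars.irrCongr e).symm χ, ?_⟩
    simp [Chars.irrCongr, charDegree]
  · rintro ⟨χ, rfl⟩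
    exact ⟨Chars.irrCongr e χ, by simp [Chars.irrCongr, charDegree]⟩

theorem charDegree_mk {G : Type v} [Group G] {f : G → ℂ} (hf : IsIrrCharacter G f) {m : ℕ}
    (h : f 1 = (m : ℂ)) : charDegree ((⟨f, hf⟩ : IrrCharacter G) : G → ℂ) = m := by
  show ⌊(f 1).re⌋₊ = m
  rw [h, Complex.natCast_re, Nat.floor_natCast]

variable [DecidableEq F] {g₀ : SLtwo F} {hg : IsElliptic g₀}

theorem R_neg_one (μ : Fˣ →* ℂˣ) :
    (slDatum hg).R μ (-1) = (μ (-1) : ℂ) * (slDatum hg).R μ 1 := by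
  have := (slDatum hg).R_mul_center μ ⟨-1, neg_one_fixed hg⟩ 1
  rw [mul_one] at this
  rw [← this]
  exact congrArg _ el_neg_one.symm

theorem piC_neg_one (θ : (slDatum hg).C →* ℂˣ) :
    (slDatum hg).piC θ (-1) = (θ (negC hg) : ℂ) * (slDatum hg).piC θ 1 := by
  have := (slDatum hg).piC_mul_center θ ⟨-1, neg_one_fixed hg⟩ 1
  rw [mul_one] at this
  rw [show θ (negC hg) = θ ((slDatum hg).zC ⟨-1, neg_one_fixed hg⟩) from rfl, ← this]
  exact congrArg _ el_neg_one.symm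

theorem St_neg_one : (slDatum hg).St (-1) = (slDatum hg).St 1 := by
  rw [Datum.St_apply, Datum.St_apply, R_neg_one, MonoidHom.one_apply, Units.val_one, one_mul]

variable (F)

omit [DecidableEq F] in
theorem card_mem_charDegrees_PSL :
    qF ∈ charDegrees (Matrix.ProjectiveSpecialLinearGroup (Fin 2) F) := by
  classical
  obtain ⟨g₀, hg⟩ := exists_elliptic (F := F)
  have := charDegree_PSL_of ⟨_, (slDatum hg).St_irr⟩ St_neg_one
  rwa [charDegree_mk _ (St_degree (hg := hg))] at this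

omit [DecidableEq F] in
theorem succ_mem_charDegrees_PSL (h : (Even qF ∧ 4 ≤ qF) ∨ 5 < qF) :
    qF + 1 ∈ charDegrees (Matrix.ProjectiveSpecialLinearGroup (Fin 2) F) := by
  classical
  obtain ⟨g₀, hg⟩ := exists_elliptic (F := F)
  suffices ∃ μ : Fˣ →* ℂˣ, μ.comp (slDatum hg).τ ≠ μ ∧ μ (-1) = 1 by
    obtain ⟨μ, hμ, h1⟩ := this
    have hmem : (slDatum hg).R μ ∈ (slDatum hg).princSet :=
      (slDatum hg).mem_princSet.mpr ⟨μ, hμ, rfl⟩
    have := charDegree_PSL_of ⟨_, (slDatum hg).R_irr hμ⟩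
      (by show (slDatum hg).R μ (-1) = _; rw [R_neg_one, h1, Units.val_one, one_mul])
    rwa [charDegree_mk _ (princ_degree hmem)] at this
  rcases h with ⟨he, h4⟩ | h5
  · have h2 : (2 : F) = 0 := by
      by_contra h2
      exact (Nat.not_even_iff_odd.mpr (two_ne_zero_iff_odd.1 h2)) he
    have hc := card_princ hg
    obtain ⟨χ, hχ⟩ : (slDatum hg).princSet.Nonempty := by
      rw [← Finset.card_pos]
      have := Nat.gcd_le_right (n := 2) (qF - 1) two_pos
      omega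
    obtain ⟨μ, hμ, -⟩ := (slDatum hg).mem_princSet.mp hχ
    refine ⟨μ, hμ, ?_⟩
    have h11 : (-1 : Fˣ) = 1 := by
      refine Units.ext ?_
      push_cast
      linear_combination -h2
    rw [h11, map_one]
  · obtain ⟨μ, hμ, hz⟩ := exists_nonreal_char (A := Fˣ)
      (by rw [Nat.card_units, Nat.card_eq_fintype_card]; omega)
    exact ⟨μ, hμ, hz _ (by simp)⟩

omit [DecidableEq F] in
theorem pred_mem_charDegrees_PSL (h : (Even qF ∧ 4 ≤ qF) ∨ 5 < qF) :
    qF - 1 ∈ charDegrees (Matrix.ProjectiveSpecialLinearGroup (Fin 2) F) := by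
  classical
  obtain ⟨g₀, hg⟩ := exists_elliptic (F := F)
  suffices ∃ θ : (slDatum hg).C →* ℂˣ, θ.comp (slDatum hg).σ ≠ θ ∧ θ (negC hg) = 1 by
    obtain ⟨θ, hθ, h1⟩ := this
    have hmem : (slDatum hg).piC θ ∈ (slDatum hg).discSet :=
      (slDatum hg).mem_discSet.mpr ⟨θ, hθ, rfl⟩
    have := charDegree_PSL_of ⟨_, (slDatum hg).piC_irr hθ⟩
      (by show (slDatum hg).piC θ (-1) = _; rw [piC_neg_one, h1, Units.val_one, one_mul])
    rwa [charDegree_mk _ (disc_degree hmem)] at this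
  letI : CommGroup (slDatum hg).C :=
    { (inferInstance : Group (slDatum hg).C) with mul_comm := (slDatum hg).C_comm }
  have : IsCyclic (slDatum hg).C := isCyclic_C hg
  obtain ⟨θ, hθ, hz⟩ := exists_nonreal_char (A := (slDatum hg).C)
    (by rw [card_C hg]; rcases h with ⟨-, h4⟩ | h5 <;> omega)
  refine ⟨θ, fun hc => hθ ?_, hz _ ?_⟩
  · rw [MonoidHom.ext_iff] at hc ⊢
    exact hc
  · refine Subtype.ext ?_
    rw [Subgroup.coe_mul, negC_val, neg_mul_neg, one_mul]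
    rfl

omit [DecidableEq F] in
/-- The degree data shared by `SL₂` and `PSL₂`. -/
theorem charDegrees_data {S : Type v} [Group S] [Finite S]
    (hS : Nonempty (S ≃* Matrix.ProjectiveSpecialLinearGroup (Fin 2) F) ∨
      Nonempty (S ≃* SLtwo F)) (h : (Even qF ∧ 4 ≤ qF) ∨ 5 < qF) :
    (∀ d ∈ charDegrees S, DegreesSL qF d) ∧ qF ∈ charDegrees S ∧ qF + 1 ∈ charDegrees S ∧
      qF - 1 ∈ charDegrees S := by
  classical
  have hsub := charDegrees_quotient_sub (Subgroup.center (SLtwo F))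
  rcases hS with ⟨⟨e⟩⟩ | ⟨⟨e⟩⟩
  · rw [charDegrees_congr e]
    exact ⟨fun d hd => charDegrees_SL_sub F (hsub hd), card_mem_charDegrees_PSL F,
      succ_mem_charDegrees_PSL F h, pred_mem_charDegrees_PSL F h⟩
  · rw [charDegrees_congr e]
    exact ⟨fun d hd => charDegrees_SL_sub F hd, hsub (card_mem_charDegrees_PSL F),
      hsub (succ_mem_charDegrees_PSL F h), hsub (pred_mem_charDegrees_PSL F h)⟩

theorem sq_sub_one (n : ℕ) : n ^ 2 - 1 = (n + 1) * (n - 1) := by
  simpa using Nat.sq_sub_sq n 1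

/-- Vertices and edges of a degree graph given the degree data. -/
theorem degreeGraph_of_data {S : Type v} [Group S] {q t n : ℕ} (ht : t.Prime) (hn : q = t ^ n)
    (hq : 4 ≤ q) (hd : ∀ d ∈ charDegrees S, DegreesSL q d) (h0 : q ∈ charDegrees S)
    (h1 : q + 1 ∈ charDegrees S) (h2 : q - 1 ∈ charDegrees S) :
    degreePrimes S = {r : ℕ | r.Prime ∧ r ∣ q * (q ^ 2 - 1)} ∧
      ∀ r s : ℕ, (degreeGraph S).Adj r s ↔
        (r ≠ s ∧ r.Prime ∧ s.Prime ∧ ((r ∣ q + 1 ∧ s ∣ q + 1) ∨ (r ∣ q - 1 ∧ s ∣ q - 1))) := by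
  have key : ∀ d ∈ charDegrees S, d = 1 ∨ d = q ∨ d ∣ q + 1 ∨ d ∣ q - 1 := fun d hd' => by
    rcases hd d hd' with h | h | h | h | h | h
    · exact Or.inl h
    · exact Or.inr (Or.inl h)
    · exact Or.inr (Or.inr (Or.inl (h ▸ dvd_rfl)))
    · exact Or.inr (Or.inr (Or.inr (h ▸ dvd_rfl)))
    · exact Or.inr (Or.inr (Or.inl ⟨2, by omega⟩))
    · exact Or.inr (Or.inr (Or.inr ⟨2, by omega⟩))
  refine ⟨Set.ext fun r => ⟨?_, ?_⟩, fun r s => ⟨?_, ?_⟩⟩
  · rintro ⟨hr, d, hd', hrd⟩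
    refine ⟨hr, ?_⟩
    rw [sq_sub_one]
    rcases key d hd' with rfl | rfl | h | h
    · exact absurd hrd hr.not_dvd_one
    · exact hrd.mul_right _
    · exact (((hrd.trans h).mul_right _)).mul_left _
    · exact (((hrd.trans h).mul_left _)).mul_left _
  · rintro ⟨hr, hrd⟩
    rw [sq_sub_one] at hrd
    refine ⟨hr, ?_⟩
    rcases hr.dvd_mul.mp hrd with h | h
    · exact ⟨q, h0, h⟩
    rcases hr.dvd_mul.mp h with h | h
    · exact ⟨_, h1, h⟩
    · exact ⟨_, h2, h⟩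
  · rintro ⟨hne, hr, hs, d, hd', hrs⟩
    refine ⟨hne, hr, hs, ?_⟩
    have h1' := (dvd_mul_right r s).trans hrs
    have h2' := (dvd_mul_left s r).trans hrs
    rcases key d hd' with rfl | rfl | h | h
    · exact absurd h1' hr.not_dvd_one
    · rw [hn] at h1' h2'
      exact absurd (((Nat.prime_dvd_prime_iff_eq hr ht).mp (hr.dvd_of_dvd_pow h1')).trans
        ((Nat.prime_dvd_prime_iff_eq hs ht).mp (hs.dvd_of_dvd_pow h2')).symm) hne
    · exact Or.inl ⟨h1'.trans h, h2'.trans h⟩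
    · exact Or.inr ⟨h1'.trans h, h2'.trans h⟩
  · rintro ⟨hne, hr, hs, ⟨ha, hb⟩ | ⟨ha, hb⟩⟩
    · exact ⟨hne, hr, hs, _, h1, ((Nat.coprime_primes hr hs).mpr hne).mul_dvd_of_dvd_of_dvd ha hb⟩
    · exact ⟨hne, hr, hs, _, h2, ((Nat.coprime_primes hr hs).mpr hne).mul_dvd_of_dvd_of_dvd ha hb⟩

end Cfsg.Agent.Lib.RankSeries
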