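import Cfsg.Agent.Lib.RankSeries.Irred

/-!
# Linear characters of finite commutative groups fixed by inversion; sums over all of them
-/

set_option autoImplicit false

namespace Cfsg.Agent.Lib.RankSeries

open scoped ComplexConjugate
open Cfsg.Agent.Lib

attribute [-instance] MonoidHom.instPow MonoidHom.mul instOneMonoidHom MonoidHom.instCommMonoid
  MonoidHom.instInv MonoidHom.instDiv

/-- Twice a sum over the image of a pairing map. -/
theorem two_mul_sum_image {X Y : Type*} [DecidableEq X] [DecidableEq Y] (s : Finset X) (i : X → X)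
    (f : X → Y) (hi : ∀ a ∈ s, i a ∈ s ∧ i a ≠ a)
    (hf : ∀ a ∈ s, ∀ b ∈ s, f a = f b ↔ b = a ∨ b = i a) (F : Y → ℂ) :
    2 * ∑ y ∈ s.image f, F y = ∑ a ∈ s, F (f a) := by
  rw [← Finset.sum_fiberwise_of_maps_to (g := f) (t := s.image f)
    (fun a ha => Finset.mem_image_of_mem f ha) (fun a => F (f a)), Finset.mul_sum]
  refine Finset.sum_congr rfl fun y hy => ?_
  obtain ⟨a, ha, rfl⟩ := Finset.mem_image.mp hy
  have : s.filter (fun b => f b = f a) = {a, i a} := by
    ext b
    simp only [Finset.mem_filter, Finset.mem_insert, Finset.mem_singleton]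
    refine ⟨fun ⟨hb, he⟩ => (hf a ha b hb).mp he.symm, ?_⟩
    rintro (rfl | rfl)
    · exact ⟨ha, rfl⟩
    · exact ⟨(hi a ha).1, ((hf a ha _ (hi a ha).1).mpr (Or.inr rfl)).symm⟩
  rw [this, Finset.sum_pair (hi a ha).2.symm, ← (hf a ha _ (hi a ha).1).mpr (Or.inr rfl)]
  ring

variable {A : Type*} [CommGroup A] [Finite A]

theorem sum_homs_apply [Fintype (A →* ℂˣ)] [DecidableEq A] (y : A) :
    ∑ μ : A →* ℂˣ, (μ y : ℂ) = if y = 1 then (Nat.card A : ℂ) else 0 := by
  classical
  cases nonempty_fintype A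
  have hbij : Function.Bijective (Chars.linIrr : (A →* ℂˣ) → IrrCharacter A) := by
    refine ⟨Chars.linIrr_injective, fun l => ?_⟩
    obtain ⟨f, hf⟩ := Chars.exists_hom_of_degree_one (Chars.irr_isCharacter l)
      (Chars.irr_apply_one_of_comm l)
    exact ⟨f, Subtype.ext hf.symm⟩
  rw [← Chars.sum_degree_mul_irr y, ← hbij.sum_comp]
  refine Finset.sum_congr rfl fun μ _ => ?_
  show (μ y : ℂ) = (μ 1 : ℂ) * μ y
  rw [map_one, Units.val_one, one_mul]

theorem comp_inv_eq_iff (μ : A →* ℂˣ) :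
    μ.comp invMonoidHom = μ ↔ ∀ x ∈ (powMonoidHom 2 : A →* A).range, μ x = 1 := by
  constructor
  · rintro h _ ⟨y, rfl⟩
    show μ (y ^ 2) = 1
    have hy : μ y⁻¹ = μ y := DFunLike.congr_fun h y
    rw [pow_two, map_mul]
    nth_rewrite 1 [← hy]
    rw [← map_mul, inv_mul_cancel, map_one]
  · intro h
    refine MonoidHom.ext fun y => ?_
    show μ y⁻¹ = μ y
    have hy : μ (y ^ 2) = 1 := h _ ⟨y, rfl⟩
    rw [pow_two, map_mul] at hy
    rw [map_inv]
    exact inv_eq_of_mul_eq_one_right hy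

/-- The fixed characters of inversion on a cyclic group. -/
theorem card_fixed_inv [IsCyclic A] :
    Nat.card {μ : A →* ℂˣ // μ.comp invMonoidHom = μ} = (Nat.card A).gcd 2 := by
  cases nonempty_fintype A
  rw [Nat.card_congr ((Equiv.subtypeEquivRight comp_inv_eq_iff).trans (homsTrivialOn _)),
    CommGroup.card_monoidHom_of_hasEnoughRootsOfUnity, ← Subgroup.index_eq_card,
    IsCyclic.index_powMonoidHom_range]

/-- On a cyclic group of even order, the character of order two detects the squares. -/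
theorem fixed_inv_apply [IsCyclic A] {m : ℕ} (hn : Nat.card A = 2 * m) {μ : A →* ℂˣ}
    (h : μ.comp invMonoidHom = μ) (h1 : μ ≠ 1) (x : A) :
    (x ^ m = 1 → (μ x : ℂ) = 1) ∧ (x ^ m ≠ 1 → (μ x : ℂ) = -1) := by
  obtain ⟨t, ht⟩ := IsCyclic.exists_generator (α := A)
  have hord : orderOf t = 2 * m := by rw [orderOf_eq_card_of_forall_mem_zpowers ht, hn]
  have htt : (μ t : ℂ) * (μ t : ℂ) = 1 := by
    have := (comp_inv_eq_iff μ).mp h _ ⟨t, rfl⟩
    rw [powMonoidHom_apply, pow_two, map_mul] at this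
    rw [← Units.val_mul, this, Units.val_one]
  have htne : μ t ≠ 1 := fun he => h1 (MonoidHom.ext fun z => by
    obtain ⟨k, rfl⟩ := Subgroup.mem_zpowers_iff.mp (ht z)
    rw [map_zpow, he, one_zpow, MonoidHom.one_apply])
  have htm : (μ t : ℂ) = -1 := by
    rcases mul_self_eq_one_iff.mp htt with h' | h'
    · exact absurd (Units.ext h') htne
    · exact h'
  obtain ⟨k, rfl⟩ := mem_powers_iff_mem_zpowers.mpr (ht x)
  have hm : m ≠ 0 := fun h0 => by rw [h0, mul_zero] at hn; exact Nat.card_pos.ne' hn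
  have hk : (t ^ k) ^ m = 1 ↔ Even k := by
    rw [← pow_mul, ← orderOf_dvd_iff_pow_eq_one, hord, mul_comm k m, mul_comm 2 m,
      Nat.mul_dvd_mul_iff_left (Nat.pos_of_ne_zero hm), even_iff_two_dvd]
  simp only [map_pow, Units.val_pow_eq_pow_val, htm]
  exact ⟨fun e => (hk.mp e).neg_one_pow,
    fun e => (Nat.not_even_iff_odd.mp fun he => e (hk.mpr he)).neg_one_pow⟩

end Cfsg.Agent.Lib.RankSeries
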