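import Cfsg.Agent.Lib.RankSeries.Basic

/-!
# Characters of a group of Lie rank one from a Borel subgroup and a non-split torus
-/

set_option autoImplicit false

namespace Cfsg.Agent.Lib.RankSeries

open scoped ComplexConjugate
open Cfsg.Agent.Lib

attribute [-instance] MonoidHom.instPow MonoidHom.mul instOneMonoidHom MonoidHom.instCommMonoid
  MonoidHom.instInv MonoidHom.instDiv

universe u v w

/-- A Borel subgroup `B` fibred over its torus `D`, and a non-split torus `C`. -/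
structure Datum (G : Type u) [Group G] (D : Type v) [CommGroup D] (K : Type w) where
  B : Subgroup G
  C : Subgroup G
  e : D × K ≃ B
  d : B →* D
  d_e : ∀ a x, d (e (a, x)) = a
  o : K
  e_one : e (1, o) = 1
  τ : D →* D
  τ_τ : ∀ a, τ (τ a) = a
  σ : C →* C
  σ_σ : ∀ c, σ (σ c) = c
  C_comm : ∀ c c' : C, c * c' = c' * c
  two_le : 2 ≤ Nat.card K
  index_B : B.index = Nat.card K + 1
  index_C : C.index = Nat.card K * (Nat.card K - 1)
  central : ∀ a, τ a = a → (e (a, o) : G) ∈ Subgroup.center G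
  central_mem_C : ∀ a, τ a = a → (e (a, o) : G) ∈ C
  parab : ∀ a x, τ a = a → x ≠ o → ∀ y : G, y⁻¹ * e (a, x) * y ∈ B → y ∈ B
  split : ∀ a x, τ a ≠ a → ∃ y : G, y ∉ B ∧
    (∃ h : y⁻¹ * e (a, x) * y ∈ B, d ⟨_, h⟩ = τ a) ∧
    ∀ z : G, z⁻¹ * e (a, x) * z ∈ B → z ∈ B ∨ y⁻¹ * z ∈ B
  center_C : ∀ c : C, (c : G) ∈ Subgroup.center G → ∃ a, τ a = a ∧ (e (a, o) : G) = c
  torus_not_B : ∀ c : C, (c : G) ∉ Subgroup.center G → ∀ y : G, y⁻¹ * c * y ∉ B
  torus_centralizer : ∀ c : C, (c : G) ∉ Subgroup.center G → ∀ y : G, y * c = c * y → y ∈ C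
  torus_conj : ∀ c : C, (c : G) ∉ Subgroup.center G → ∃ y : G, y⁻¹ * c * y = σ c
  torus_fusion : ∀ c : C, (c : G) ∉ Subgroup.center G → ∀ y : G, y⁻¹ * c * y ∈ C →
    y⁻¹ * c * y = c ∨ y⁻¹ * c * y = σ c
  σ_ne : ∀ c : C, (c : G) ∉ Subgroup.center G → σ c ≠ c
  σ_center : ∀ c : C, (c : G) ∈ Subgroup.center G → σ c = c

namespace Datum

variable {G : Type u} [Group G] {D : Type v} [CommGroup D] {K : Type w}
  (Δ : Datum G D K)

local notation "q" => Nat.card K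

include Δ in
theorem sub_one_ne_zero : ((q : ℂ) - 1) ≠ 0 := by
  have := Δ.two_le
  rw [sub_ne_zero]
  exact_mod_cast (by omega : q ≠ 1)

theorem σ_mem_center_iff (c : Δ.C) :
    ((Δ.σ c : Δ.C) : G) ∈ Subgroup.center G ↔ (c : G) ∈ Subgroup.center G := by
  refine ⟨fun h => ?_, fun h => by rwa [Δ.σ_center c h]⟩
  have h' := Δ.σ_center _ h
  rw [Δ.σ_σ] at h'
  rwa [← h'] at h

/-- The central elements in `C`. -/
def zC (a : {a : D // Δ.τ a = a}) : Δ.C := ⟨Δ.e (a.1, Δ.o), Δ.central_mem_C a.1 a.2⟩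

theorem zC_mem_center (a : {a : D // Δ.τ a = a}) : (Δ.zC a : G) ∈ Subgroup.center G :=
  Δ.central a.1 a.2

theorem zC_injective : Function.Injective Δ.zC := fun a b h => by
  have h' : Δ.e (a.1, Δ.o) = Δ.e (b.1, Δ.o) := Subtype.ext (congrArg (fun c : Δ.C => (c : G)) h)
  exact Subtype.ext (Prod.mk.inj (Δ.e.injective h')).1

theorem zC_mul (a b : D) (ha : Δ.τ a = a) (hb : Δ.τ b = b) :
    Δ.zC ⟨a, ha⟩ * Δ.zC ⟨b, hb⟩ = Δ.zC ⟨a * b, by rw [map_mul, ha, hb]⟩ := by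
  obtain ⟨c, hc, he⟩ := Δ.center_C (Δ.zC ⟨a, ha⟩ * Δ.zC ⟨b, hb⟩)
    (Subgroup.mul_mem _ (Δ.central a ha) (Δ.central b hb))
  have hB : Δ.e (c, Δ.o) = Δ.e (a, Δ.o) * Δ.e (b, Δ.o) := Subtype.ext he
  have hc' := congrArg Δ.d hB
  rw [map_mul, Δ.d_e, Δ.d_e, Δ.d_e] at hc'
  subst hc'
  exact Subtype.ext he.symm

/-- A character `μ` of `D` agrees with `θ` on the centre. -/
def Compat (θ : Δ.C →* ℂˣ) (μ : D →* ℂˣ) : Prop :=
  ∀ a : {a : D // Δ.τ a = a}, θ (Δ.zC a) = μ a.1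

theorem exists_compat [Finite D] (θ : Δ.C →* ℂˣ) : ∃ μ : D →* ℂˣ, Δ.Compat θ μ := by
  let H : Subgroup D := MonoidHom.eqLocus Δ.τ (MonoidHom.id D)
  let f : H →* ℂˣ :=
    { toFun := fun a => θ (Δ.zC ⟨a.1, a.2⟩)
      map_one' := by
        have : Δ.zC ⟨((1 : H) : D), (1 : H).2⟩ = 1 := Subtype.ext (by
          show (Δ.e (1, Δ.o) : G) = 1
          rw [Δ.e_one]; rfl)
        rw [this, map_one]
      map_mul' := fun a b => by
        rw [← map_mul, Δ.zC_mul a.1 b.1 a.2 b.2]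
        rfl }
  have : HasEnoughRootsOfUnity ℂ (Monoid.exponent D) := inferInstance
  obtain ⟨μ, hμ⟩ := MonoidHom.domRestrict_surjective (M := ℂ) H f
  exact ⟨μ, fun a => (DFunLike.congr_fun hμ ⟨a.1, a.2⟩).symm⟩

theorem compat_σ {θ : Δ.C →* ℂˣ} {μ : D →* ℂˣ} (h : Δ.Compat θ μ) :
    Δ.Compat (θ.comp Δ.σ) μ := fun a => by
  rw [MonoidHom.comp_apply, Δ.σ_center _ (Δ.zC_mem_center a), h a]

/-- The linear character of `B` given by a character of `D`. -/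
noncomputable def lam (μ : D →* ℂˣ) : Δ.B → ℂ := fun b => (μ (Δ.d b) : ℂ)

theorem lam_e (μ : D →* ℂˣ) (a : D) (x : K) : Δ.lam μ (Δ.e (a, x)) = (μ a : ℂ) := by
  rw [lam, Δ.d_e]

theorem lam_isCharacter (μ : D →* ℂˣ) : IsCharacter Δ.B (Δ.lam μ) :=
  Chars.isCharacter_hom (μ.comp Δ.d)

theorem lam_class (μ : D →* ℂˣ) : IsClassFunction Δ.B (Δ.lam μ) :=
  Chars.isClassFunction_of_isCharacter (Δ.lam_isCharacter μ)

theorem hom_class (θ : Δ.C →* ℂˣ) : IsClassFunction Δ.C (fun c => (θ c : ℂ)) :=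
  Chars.isClassFunction_of_isCharacter (Chars.isCharacter_hom θ)

variable [Fintype G]

/-- The principal series. -/
noncomputable def R (μ : D →* ℂˣ) : G → ℂ := indFun Δ.B (Δ.lam μ)

/-- The Steinberg character. -/
noncomputable def St : G → ℂ := fun g => Δ.R 1 g - 1

/-- The discrete series. -/
noncomputable def pi (θ : Δ.C →* ℂˣ) (μ : D →* ℂˣ) : G → ℂ :=
  fun g => (Δ.R 1 g - 2) * Δ.R μ g - indFun Δ.C (fun c => (θ c : ℂ)) g

theorem R_isCharacter (μ : D →* ℂˣ) : IsCharacter G (Δ.R μ) :=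
  Chars.isCharacter_indFun _ (Δ.lam_isCharacter μ)

theorem R_class (μ : D →* ℂˣ) : IsClassFunction G (Δ.R μ) := Chars.isClassFunction_indFun _ _

theorem pi_generalized (θ : Δ.C →* ℂˣ) (μ : D →* ℂˣ) :
    IsGeneralizedCharacter G (Δ.pi θ μ) := by
  have h : Δ.pi θ μ = (Δ.R 1 * Δ.R μ - (Δ.R μ + Δ.R μ)) - indFun Δ.C (fun c => (θ c : ℂ)) := by
    funext g
    simp only [pi, Pi.sub_apply, Pi.mul_apply, Pi.add_apply]
    ring
  rw [h]
  exact Chars.isGeneralizedCharacter_sub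
    (Chars.isGeneralizedCharacter_sub
      (Chars.isGeneralizedCharacter_of_isCharacter
        (Chars.isCharacter_mul (Δ.R_isCharacter 1) (Δ.R_isCharacter μ)))
      (Chars.isGeneralizedCharacter_of_isCharacter
        (Chars.isCharacter_add (Δ.R_isCharacter μ) (Δ.R_isCharacter μ))))
    (Chars.isGeneralizedCharacter_of_isCharacter
      (Chars.isCharacter_indFun _ (Chars.isCharacter_hom θ)))

theorem pi_class (θ : Δ.C →* ℂˣ) (μ : D →* ℂˣ) : IsClassFunction G (Δ.pi θ μ) :=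
  Chars.isClassFunction_of_isGeneralizedCharacter (Δ.pi_generalized θ μ)

/-! ### Values -/

theorem R_center (μ : D →* ℂˣ) {a : D} (ha : Δ.τ a = a) :
    Δ.R μ (Δ.e (a, Δ.o)) = ((q : ℂ) + 1) * (μ a : ℂ) := by
  rw [R, indFun_central _ _ _ (Δ.central a ha), Δ.index_B, lam_e, Nat.cast_add, Nat.cast_one]

theorem R_parab (μ : D →* ℂˣ) {a : D} {x : K} (ha : Δ.τ a = a) (hx : x ≠ Δ.o) :
    Δ.R μ (Δ.e (a, x)) = (μ a : ℂ) := by
  rw [R, indFun_one_coset _ _ (Δ.lam_class μ) _ fun y => ⟨Δ.parab a x ha hx y, fun hy =>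
    Δ.B.mul_mem (Δ.B.mul_mem (Δ.B.inv_mem hy) (Δ.e (a, x)).2) hy⟩, lam_e]

theorem R_split (μ : D →* ℂˣ) {a : D} (x : K) (ha : Δ.τ a ≠ a) :
    Δ.R μ (Δ.e (a, x)) = (μ a : ℂ) + (μ (Δ.τ a) : ℂ) := by
  obtain ⟨y, hy, ⟨hmem, hd⟩, hz⟩ := Δ.split a x ha
  rw [R, indFun_two_cosets _ _ (Δ.lam_class μ) _ hmem hy hz, lam_e, lam, hd]

theorem R_torus (μ : D →* ℂˣ) (c : Δ.C) (hc : (c : G) ∉ Subgroup.center G) :
    Δ.R μ c = 0 :=
  indFun_eq_zero _ _ (Δ.torus_not_B c hc)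

theorem R_one (μ : D →* ℂˣ) : Δ.R μ 1 = (q : ℂ) + 1 := by
  have h := Δ.R_center μ (a := 1) (map_one _)
  rw [Δ.e_one, OneMemClass.coe_one, map_one, Units.val_one, mul_one] at h
  exact h

theorem indC_center (θ : Δ.C →* ℂˣ) (a : {a : D // Δ.τ a = a}) :
    indFun Δ.C (fun c => (θ c : ℂ)) (Δ.e (a.1, Δ.o)) =
      (q : ℂ) * ((q : ℂ) - 1) * (θ (Δ.zC a) : ℂ) := by
  have h := indFun_central Δ.C (fun c => (θ c : ℂ)) (Δ.zC a) (Δ.zC_mem_center a)
  rw [Δ.index_C, Nat.cast_mul, Nat.cast_sub (by have := Δ.two_le; omega), Nat.cast_one] at h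
  exact h

theorem not_center_of_parab {a : D} {x : K} (ha : Δ.τ a = a) (hx : x ≠ Δ.o) :
    (Δ.e (a, x) : G) ∉ Subgroup.center G := fun h => by
  have htop : Δ.B = ⊤ := by
    rw [Subgroup.eq_top_iff']
    intro y
    refine Δ.parab a x ha hx y ?_
    rw [Subgroup.mem_center_iff.mp h y⁻¹, inv_mul_cancel_right]
    exact (Δ.e (a, x)).2
  have := Δ.index_B
  rw [htop, Subgroup.index_top] at this
  have := Δ.two_le
  omega

theorem not_center_of_split {a : D} {x : K} (ha : Δ.τ a ≠ a) :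
    (Δ.e (a, x) : G) ∉ Subgroup.center G := fun h => ha (by
  obtain ⟨y, -, ⟨hmem, hd⟩, -⟩ := Δ.split a x ha
  have he : (⟨_, hmem⟩ : Δ.B) = Δ.e (a, x) := Subtype.ext (by
    show y⁻¹ * (Δ.e (a, x) : G) * y = Δ.e (a, x)
    rw [Subgroup.mem_center_iff.mp h y⁻¹, inv_mul_cancel_right])
  rw [← hd, he, Δ.d_e])

theorem indC_not_center (θ : Δ.C →* ℂˣ) (b : Δ.B) (hb : (b : G) ∉ Subgroup.center G) :
    indFun Δ.C (fun c => (θ c : ℂ)) b = 0 := by
  refine indFun_eq_zero _ _ fun y hy => ?_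
  refine Δ.torus_not_B ⟨_, hy⟩ (fun h => hb ?_) y⁻¹ ?_
  · have h' : y⁻¹ * (b : G) * y ∈ Subgroup.center G := h
    have := Subgroup.mem_center_iff.mp h' y
    rw [show y * (y⁻¹ * (b : G) * y) = (b : G) * y by group] at this
    rw [show (b : G) = y⁻¹ * b * y from mul_right_cancel this]
    exact h'
  · show y⁻¹⁻¹ * (y⁻¹ * (b : G) * y) * y⁻¹ ∈ Δ.B
    rw [show y⁻¹⁻¹ * (y⁻¹ * (b : G) * y) * y⁻¹ = (b : G) by group]
    exact b.2

theorem indC_torus (θ : Δ.C →* ℂˣ) (c : Δ.C) (hc : (c : G) ∉ Subgroup.center G) :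
    indFun Δ.C (fun c => (θ c : ℂ)) c = (θ c : ℂ) + (θ (Δ.σ c) : ℂ) := by
  obtain ⟨y, hy⟩ := Δ.torus_conj c hc
  have hmem : y⁻¹ * (c : G) * y ∈ Δ.C := hy ▸ (Δ.σ c).2
  have hyC : y ∉ Δ.C := fun h => Δ.σ_ne c hc (Subtype.ext (by
    rw [← hy]
    have hcom : c * ⟨y, h⟩ = ⟨y, h⟩ * c := Δ.C_comm _ _
    have hcom' : (c : G) * y = y * c := congrArg Subtype.val hcom
    rw [mul_assoc, hcom', inv_mul_cancel_left]))
  rw [indFun_two_cosets _ _ (Δ.hom_class θ) c hmem hyC fun z hz => ?_]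
  · rw [show (⟨_, hmem⟩ : Δ.C) = Δ.σ c from Subtype.ext hy]
  · rcases Δ.torus_fusion c hc z hz with h | h
    · refine Or.inl (Δ.torus_centralizer c hc z ?_)
      rw [mul_assoc, inv_mul_eq_iff_eq_mul] at h
      exact h.symm
    · refine Or.inr ?_
      refine Δ.torus_centralizer (Δ.σ c) (fun hc' => hc ((Δ.σ_mem_center_iff c).mp hc')) _ ?_
      have h' : (c : G) * z = z * (Δ.σ c : G) := by
        rw [mul_assoc, inv_mul_eq_iff_eq_mul] at h
        exact h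
      have hy' : (c : G) * y = y * (Δ.σ c : G) := by
        have := hy
        rw [mul_assoc, inv_mul_eq_iff_eq_mul] at this
        exact this
      calc y⁻¹ * z * (Δ.σ c : G) = y⁻¹ * (z * (Δ.σ c : G)) := by group
        _ = y⁻¹ * ((c : G) * y) * (y⁻¹ * z) := by rw [← h']; group
        _ = (Δ.σ c : G) * (y⁻¹ * z) := by rw [hy']; group

section Pi

variable {θ : Δ.C →* ℂˣ} {μ : D →* ℂˣ}

theorem pi_center (h : Δ.Compat θ μ) {a : D} (ha : Δ.τ a = a) :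
    Δ.pi θ μ (Δ.e (a, Δ.o)) = ((q : ℂ) - 1) * (μ a : ℂ) := by
  rw [pi, Δ.R_center 1 ha, Δ.R_center μ ha, Δ.indC_center θ ⟨a, ha⟩, h]
  simp only [MonoidHom.one_apply, Units.val_one]
  ring

theorem pi_parab {a : D} {x : K} (ha : Δ.τ a = a) (hx : x ≠ Δ.o) :
    Δ.pi θ μ (Δ.e (a, x)) = -(μ a : ℂ) := by
  rw [pi, Δ.R_parab 1 ha hx, Δ.R_parab μ ha hx,
    Δ.indC_not_center θ _ (Δ.not_center_of_parab ha hx)]
  simp only [MonoidHom.one_apply, Units.val_one]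
  ring

theorem pi_split {a : D} (x : K) (ha : Δ.τ a ≠ a) : Δ.pi θ μ (Δ.e (a, x)) = 0 := by
  rw [pi, Δ.R_split 1 x ha, Δ.indC_not_center θ _ (Δ.not_center_of_split ha)]
  simp only [MonoidHom.one_apply, Units.val_one]
  ring

theorem pi_torus (c : Δ.C) (hc : (c : G) ∉ Subgroup.center G) :
    Δ.pi θ μ c = -((θ c : ℂ) + (θ (Δ.σ c) : ℂ)) := by
  rw [pi, Δ.R_torus μ c hc, Δ.indC_torus θ c hc]
  ring

theorem pi_one (h : Δ.Compat θ μ) : Δ.pi θ μ 1 = (q : ℂ) - 1 := by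
  have h1 := Δ.pi_center h (a := 1) (map_one _)
  rw [Δ.e_one, OneMemClass.coe_one, map_one, Units.val_one, mul_one] at h1
  exact h1

end Pi

/-! ### Inner products -/

noncomputable local instance (H : Subgroup G) : Fintype H := Fintype.ofFinite _

variable [Fintype D] [Fintype K]

theorem card_B : Nat.card Δ.B = Nat.card D * q := by
  rw [← Nat.card_congr Δ.e, Nat.card_prod]

theorem card_ratio :
    (Nat.card Δ.C : ℂ)⁻¹ * ((q : ℂ) + 1) = (Nat.card Δ.B : ℂ)⁻¹ * ((q : ℂ) * ((q : ℂ) - 1)) := by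
  have h1 := Δ.B.card_mul_index
  have h2 := Δ.C.card_mul_index
  rw [Δ.index_B] at h1
  rw [Δ.index_C] at h2
  have h3 : (Nat.card Δ.B : ℂ) * ((q : ℂ) + 1) = (Nat.card Δ.C : ℂ) * ((q : ℂ) * ((q : ℂ) - 1)) := by
    have h4 : ((Nat.card Δ.B * (q + 1) : ℕ) : ℂ) = ((Nat.card Δ.C * (q * (q - 1)) : ℕ) : ℂ) := by
      rw [h1, h2]
    push_cast [Nat.cast_sub (show 1 ≤ q from le_trans one_le_two Δ.two_le)] at h4
    exact h4
  rw [inv_mul_eq_iff_eq_mul₀ Chars.natCard_ne_zero, ← mul_assoc, mul_comm (Nat.card Δ.C : ℂ),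
    mul_assoc, eq_inv_mul_iff_mul_eq₀ Chars.natCard_ne_zero, h3]

open Classical in
theorem sum_B (F : Δ.B → ℂ) :
    ∑ b, F b = ∑ a : D, ∑ x : K, F (Δ.e (a, x)) := by
  rw [← Fintype.sum_prod_type' (f := fun a x => F (Δ.e (a, x)))]
  exact (Equiv.sum_comp Δ.e F).symm

open Classical in
theorem sum_fixed_K (F : K → ℂ) {P Z : ℂ} (hp : ∀ x, x ≠ Δ.o → F x = P) (hz : F Δ.o = Z) :
    ∑ x, F x = ((q : ℂ) - 1) * P + Z := by
  rw [← Finset.sum_erase_add _ _ (Finset.mem_univ Δ.o),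
    Finset.sum_congr rfl fun x hx => hp x (Finset.mem_erase.mp hx).1, hz, Finset.sum_const,
    Finset.card_erase_of_mem (Finset.mem_univ _), Finset.card_univ, nsmul_eq_mul,
    Nat.cast_sub (Fintype.card_pos_iff.mpr ⟨Δ.o⟩), Nat.cast_one, Fintype.card_eq_nat_card]

theorem sum_hom_mul_conj {A : Type*} [CommGroup A] [Fintype A] (μ ν : A →* ℂˣ)
    [Decidable (μ = ν)] :
    ∑ a, (μ a : ℂ) * conj (ν a : ℂ) = if μ = ν then (Nat.card A : ℂ) else 0 := by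
  classical
  have h := Chars.classInner_irr (Chars.linIrr μ) (Chars.linIrr ν)
  rw [classInner, inv_mul_eq_iff_eq_mul₀ Chars.natCard_ne_zero] at h
  rw [show ∑ a, (μ a : ℂ) * conj (ν a : ℂ) = _ from h]
  by_cases he : μ = ν
  · rw [if_pos he, if_pos (by rw [he]), mul_one]
  · rw [if_neg he, if_neg fun h' => he (Chars.linIrr_injective h'), mul_zero]

theorem classInner_R_R (μ ν : D →* ℂˣ) [Decidable (μ = ν)] [Decidable (μ = ν.comp Δ.τ)] :
    classInner (Δ.R μ) (Δ.R ν) =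
      (if μ = ν then 1 else 0) + (if μ = ν.comp Δ.τ then 1 else 0) := by
  classical
  rw [R, Chars.classInner_indFun_left _ _ _ (Δ.R_class ν), classInner, Δ.sum_B,
    Finset.sum_congr rfl (g := fun a => (q : ℂ) *
      ((μ a : ℂ) * conj (ν a : ℂ) + (μ a : ℂ) * conj (ν.comp Δ.τ a : ℂ))) fun a _ => ?_,
    ← Finset.mul_sum, Finset.sum_add_distrib, sum_hom_mul_conj, sum_hom_mul_conj, Δ.card_B,
    Nat.cast_mul]
  · have hD : (Nat.card D : ℂ) ≠ 0 := Chars.natCard_ne_zero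
    have hq : (q : ℂ) ≠ 0 := Nat.cast_ne_zero.mpr (by have := Δ.two_le; omega)
    split_ifs <;> field_simp <;> ring
  · by_cases ha : Δ.τ a = a
    · rw [Δ.sum_fixed_K _ (P := (μ a : ℂ) * conj (ν a : ℂ))
          (Z := (μ a : ℂ) * (((q : ℂ) + 1) * conj (ν a : ℂ))) (fun x hx => ?_) ?_,
        MonoidHom.comp_apply, ha]
      · ring
      · rw [lam_e, Δ.R_center ν ha, map_mul, map_add, Complex.conj_natCast, map_one]
      · rw [lam_e, Δ.R_parab ν ha hx]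
    · rw [Finset.sum_congr rfl (g := fun _ => (μ a : ℂ) * (conj (ν a : ℂ) + conj (ν (Δ.τ a) : ℂ)))
          fun x _ => by rw [lam_e, Δ.R_split ν x ha, map_add],
        Finset.sum_const, Finset.card_univ, nsmul_eq_mul, Fintype.card_eq_nat_card,
        MonoidHom.comp_apply, mul_add ((μ a : ℂ))]

theorem classInner_pi (θ : Δ.C →* ℂˣ) (μ : D →* ℂˣ) {f : G → ℂ} (hf : IsClassFunction G f) :
    classInner (Δ.pi θ μ) f =
      classInner (fun b : Δ.B => (Δ.R 1 b - 2) * Δ.lam μ b) (fun b : Δ.B => f b) -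
        classInner (fun c : Δ.C => (θ c : ℂ)) (fun c : Δ.C => f c) := by
  have hR : IsClassFunction G (fun g => Δ.R 1 g - 2) := fun g k => by
    show Δ.R 1 _ - 2 = Δ.R 1 _ - 2
    rw [Δ.R_class 1 g k]
  have hpi : Δ.pi θ μ = indFun Δ.B (fun b : Δ.B => (Δ.R 1 b - 2) * Δ.lam μ b) -
      indFun Δ.C (fun c => (θ c : ℂ)) := by
    rw [indFun_mul_classFun Δ.B (Δ.lam μ) hR]
    rfl
  rw [hpi, Chars.classInner_sub_left, Chars.classInner_indFun_left _ _ _ hf,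
    Chars.classInner_indFun_left _ _ _ hf]

theorem sum_center_C [∀ c : Δ.C, Decidable ((c : G) ∈ Subgroup.center G)]
    [DecidablePred fun a : D => Δ.τ a = a] (F : Δ.C → ℂ) :
    (∑ c : Δ.C, if (c : G) ∈ Subgroup.center G then F c else 0) =
      ∑ a : {a : D // Δ.τ a = a}, F (Δ.zC a) := by
  rw [← Finset.sum_filter]
  symm
  refine Finset.sum_bij (fun a _ => Δ.zC a)
    (fun a _ => Finset.mem_filter.mpr ⟨Finset.mem_univ _, Δ.zC_mem_center a⟩)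
    (fun a _ b _ h => Δ.zC_injective h) (fun c hc => ?_) fun _ _ => rfl
  obtain ⟨a, ha, he⟩ := Δ.center_C c (Finset.mem_filter.mp hc).2
  exact ⟨⟨a, ha⟩, Finset.mem_univ _, Subtype.ext he⟩

theorem sum_B_fixed [DecidablePred fun a : D => Δ.τ a = a] (F : Δ.B → ℂ)
    (c : {a : D // Δ.τ a = a} → ℂ) (hs : ∀ a x, Δ.τ a ≠ a → F (Δ.e (a, x)) = 0)
    (hc : ∀ a : {a : D // Δ.τ a = a}, ∑ x, F (Δ.e (a.1, x)) = c a) :
    ∑ b, F b = ∑ a, c a := by
  rw [Δ.sum_B, ← Finset.sum_filter_add_sum_filter_not Finset.univ (fun a : D => Δ.τ a = a),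
    Finset.sum_congr (s₁ := Finset.univ.filter fun a : D => ¬Δ.τ a = a) rfl (g := fun _ => (0 : ℂ))
      fun a ha => ?_, Finset.sum_const_zero, add_zero,
    Finset.sum_subtype _ (p := fun a : D => Δ.τ a = a) fun a => by simp]
  · exact Finset.sum_congr rfl fun a _ => hc a
  · exact Finset.sum_eq_zero fun x _ => hs a x (Finset.mem_filter.mp ha).2

theorem classInner_pi_pi {θ θ' : Δ.C →* ℂˣ} {μ μ' : D →* ℂˣ} (h : Δ.Compat θ μ)
    (h' : Δ.Compat θ' μ') [Decidable (θ = θ')] [Decidable (θ = θ'.comp Δ.σ)] :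
    classInner (Δ.pi θ μ) (Δ.pi θ' μ') =
      (if θ = θ' then 1 else 0) + (if θ = θ'.comp Δ.σ then 1 else 0) := by
  classical
  let : CommGroup Δ.C := { (inferInstance : Group Δ.C) with mul_comm := Δ.C_comm }
  set S := ∑ a : {a : D // Δ.τ a = a}, (μ a.1 : ℂ) * conj (μ' a.1 : ℂ) with hS
  rw [Δ.classInner_pi θ μ (Δ.pi_class θ' μ')]
  simp only [classInner]
  rw [Δ.sum_B_fixed (fun b => (Δ.R 1 b - 2) * Δ.lam μ b * conj (Δ.pi θ' μ' b))
    (fun a => (q : ℂ) * ((q : ℂ) - 1) * ((μ a.1 : ℂ) * conj (μ' a.1 : ℂ))) ?_ ?_,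
    ← Finset.mul_sum, ← hS,
    Finset.sum_congr rfl (g := fun c : Δ.C =>
      (if (c : G) ∈ Subgroup.center G then ((q : ℂ) + 1) * ((θ c : ℂ) * conj (θ' c : ℂ)) else 0) -
        ((θ c : ℂ) * conj (θ' c : ℂ) + (θ c : ℂ) * conj (θ'.comp Δ.σ c : ℂ))) fun c _ => ?_,
    Finset.sum_sub_distrib, Δ.sum_center_C, Finset.sum_add_distrib, ← Finset.mul_sum,
    sum_hom_mul_conj, sum_hom_mul_conj]
  · have hS' : ∑ a : {a : D // Δ.τ a = a}, (θ (Δ.zC a) : ℂ) * conj (θ' (Δ.zC a) : ℂ) = S :=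
      Finset.sum_congr rfl fun a _ => by rw [h a, h' a]
    rw [hS', mul_sub ((Nat.card Δ.C : ℂ)⁻¹), ← mul_assoc, ← mul_assoc ((Nat.card Δ.C : ℂ)⁻¹),
      Δ.card_ratio, ← mul_assoc]
    have hC : (Nat.card Δ.C : ℂ) ≠ 0 := Chars.natCard_ne_zero
    split_ifs <;> field_simp <;> ring
  · by_cases hc : (c : G) ∈ Subgroup.center G
    · obtain ⟨a, ha, he⟩ := Δ.center_C c hc
      have hca : c = Δ.zC ⟨a, ha⟩ := Subtype.ext he.symm
      rw [if_pos hc, MonoidHom.comp_apply, Δ.σ_center c hc, ← he, Δ.pi_center h' ha, map_mul,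
        map_sub, Complex.conj_natCast, map_one, hca, h ⟨a, ha⟩, h' ⟨a, ha⟩]
      ring
    · rw [if_neg hc, Δ.pi_torus c hc, map_neg, map_add, MonoidHom.comp_apply]
      ring
  · intro a x ha
    rw [Δ.pi_split x ha, map_zero, mul_zero]
  · intro a
    rw [Δ.sum_fixed_K _ (P := (μ a.1 : ℂ) * conj (μ' a.1 : ℂ))
      (Z := ((q : ℂ) - 1) * ((q : ℂ) - 1) * ((μ a.1 : ℂ) * conj (μ' a.1 : ℂ))) (fun x hx => ?_) ?_]
    · ring
    · rw [Δ.R_center 1 a.2, lam_e, Δ.pi_center h' a.2, map_mul, map_sub, Complex.conj_natCast,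
        map_one]
      simp only [MonoidHom.one_apply, Units.val_one]
      ring
    · rw [Δ.R_parab 1 a.2 hx, lam_e, Δ.pi_parab a.2 hx, map_neg]
      simp only [MonoidHom.one_apply, Units.val_one]
      ring

theorem classInner_pi_R {θ : Δ.C →* ℂˣ} {μ : D →* ℂˣ} (h : Δ.Compat θ μ) (ν : D →* ℂˣ) :
    classInner (Δ.pi θ μ) (Δ.R ν) = 0 := by
  classical
  set S := ∑ a : {a : D // Δ.τ a = a}, (μ a.1 : ℂ) * conj (ν a.1 : ℂ) with hS
  rw [Δ.classInner_pi θ μ (Δ.R_class ν)]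
  simp only [classInner]
  rw [Δ.sum_B_fixed (fun b => (Δ.R 1 b - 2) * Δ.lam μ b * conj (Δ.R ν b))
    (fun a => (q : ℂ) * ((q : ℂ) - 1) * ((μ a.1 : ℂ) * conj (ν a.1 : ℂ))) ?_ ?_,
    ← Finset.mul_sum, ← hS,
    Finset.sum_congr rfl (g := fun c : Δ.C =>
      (if (c : G) ∈ Subgroup.center G then (θ c : ℂ) * conj (Δ.R ν c) else 0)) fun c _ => ?_,
    Δ.sum_center_C]
  · have hS' : ∑ a : {a : D // Δ.τ a = a}, (θ (Δ.zC a) : ℂ) * conj (Δ.R ν (Δ.zC a)) =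
        ((q : ℂ) + 1) * S := by
      rw [hS, Finset.mul_sum]
      refine Finset.sum_congr rfl fun a _ => ?_
      show _ * conj (Δ.R ν (Δ.e (a.1, Δ.o) : G)) = _
      rw [h a, Δ.R_center ν a.2, map_mul, map_add, Complex.conj_natCast, map_one]
      ring
    rw [hS', ← mul_assoc ((Nat.card Δ.C : ℂ)⁻¹), Δ.card_ratio]
    ring
  · by_cases hc : (c : G) ∈ Subgroup.center G
    · rw [if_pos hc]
    · rw [if_neg hc, Δ.R_torus ν c hc, map_zero, mul_zero]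
  · intro a x ha
    rw [Δ.R_split 1 x ha]
    simp only [MonoidHom.one_apply, Units.val_one]
    ring
  · intro a
    rw [Δ.sum_fixed_K _ (P := -((μ a.1 : ℂ) * conj (ν a.1 : ℂ)))
      (Z := ((q : ℂ) - 1) * ((q : ℂ) + 1) * ((μ a.1 : ℂ) * conj (ν a.1 : ℂ))) (fun x hx => ?_) ?_]
    · ring
    · rw [Δ.R_center 1 a.2, lam_e, Δ.R_center ν a.2, map_mul, map_add, Complex.conj_natCast,
        map_one]
      simp only [MonoidHom.one_apply, Units.val_one]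
      ring
    · rw [Δ.R_parab 1 a.2 hx, lam_e, Δ.R_parab ν a.2 hx]
      simp only [MonoidHom.one_apply, Units.val_one]
      ring

theorem classInner_pi_one {θ : Δ.C →* ℂˣ} {μ : D →* ℂˣ} (h : Δ.Compat θ μ)
    [Decidable (θ = 1)] :
    classInner (Δ.pi θ μ) (fun _ => (1 : ℂ)) = -(if θ = 1 then 1 else 0) := by
  classical
  let : CommGroup Δ.C := { (inferInstance : Group Δ.C) with mul_comm := Δ.C_comm }
  rw [Δ.classInner_pi θ μ (fun _ _ => rfl)]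
  simp only [classInner, map_one, mul_one]
  rw [Δ.sum_B_fixed (fun b => (Δ.R 1 b - 2) * Δ.lam μ b) (fun _ => 0) ?_ ?_,
    Finset.sum_const_zero, mul_zero, zero_sub,
    Finset.sum_congr rfl (g := fun c => (θ c : ℂ) * conj ((1 : Δ.C →* ℂˣ) c : ℂ)) fun c _ => by simp,
    sum_hom_mul_conj]
  · have hC : (Nat.card Δ.C : ℂ) ≠ 0 := Chars.natCard_ne_zero
    split_ifs <;> simp [hC]
  · intro a x ha
    rw [Δ.R_split 1 x ha]
    simp only [MonoidHom.one_apply, Units.val_one]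
    ring
  · intro a
    rw [Δ.sum_fixed_K _ (P := -(μ a.1 : ℂ)) (Z := ((q : ℂ) - 1) * (μ a.1 : ℂ)) (fun x hx => ?_) ?_]
    · ring
    · rw [Δ.R_center 1 a.2, lam_e]
      simp only [MonoidHom.one_apply, Units.val_one]
      ring
    · rw [Δ.R_parab 1 a.2 hx, lam_e]
      simp only [MonoidHom.one_apply, Units.val_one]
      ring

end Datum

end Cfsg.Agent.Lib.RankSeries
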