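import Cfsg.Agent.Lib.RankSeries.Irred
import Mathlib.LinearAlgebra.Matrix.GeneralLinearGroup.Card
import Mathlib.LinearAlgebra.Matrix.Adjugate

/-!
# The rank one datum of `GL₂`
-/

set_option autoImplicit false

namespace Cfsg.Agent.Lib.RankSeries

open Cfsg.Agent.Lib

/-- `GL₂`. -/
abbrev GLtwo (F : Type*) [Field F] := GL (Fin 2) F

/-- The upper triangular subgroup of `GL₂`. -/
abbrev borelGL (F : Type*) [Field F] : Subgroup (GLtwo F) := upperTriangularGL 2 F

variable {F : Type*} [Field F]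

/-- The characteristic polynomial of a two by two matrix. -/
def cp (M : Matrix (Fin 2) (Fin 2) F) (r : F) : F :=
  r ^ 2 - (M 0 0 + M 1 1) * r + (M 0 0 * M 1 1 - M 0 1 * M 1 0)

/-- No eigenvalue in the field. -/
def IsEll (g : GLtwo F) : Prop := ∀ r : F, cp g.val r ≠ 0

/-- An element of `GL₂` from its entries. -/
noncomputable def mk2 (a b c d : F) (h : a * d - b * c ≠ 0) : GLtwo F :=
  Matrix.GeneralLinearGroup.mkOfDetNeZero !![a, b; c, d] (by rw [Matrix.det_fin_two_of]; exact h)

theorem mk2_val (a b c d : F) (h : a * d - b * c ≠ 0) :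
    (mk2 a b c d h).val = !![a, b; c, d] := rfl

theorem det_ne (g : GLtwo F) : g.val 0 0 * g.val 1 1 - g.val 0 1 * g.val 1 0 ≠ 0 := by
  rw [← Matrix.det_fin_two]
  exact Matrix.GeneralLinearGroup.det_ne_zero g

theorem gl_ext {g h : GLtwo F} (h00 : g.val 0 0 = h.val 0 0) (h01 : g.val 0 1 = h.val 0 1)
    (h10 : g.val 1 0 = h.val 1 0) (h11 : g.val 1 1 = h.val 1 1) : g = h := by
  refine Units.ext (Matrix.ext fun i j => ?_)
  fin_cases i <;> fin_cases j <;> assumption

theorem mul_entry (g h : GLtwo F) (i j : Fin 2) :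
    (g * h).val i j = g.val i 0 * h.val 0 j + g.val i 1 * h.val 1 j := by
  rw [Units.val_mul, Matrix.mul_apply, Fin.sum_univ_two]

theorem inv_val (g : GLtwo F) :
    (g⁻¹).val = (g.val.det)⁻¹ • !![g.val 1 1, -g.val 0 1; -g.val 1 0, g.val 0 0] := by
  rw [Matrix.coe_units_inv, Matrix.inv_def, Ring.inverse_eq_inv', Matrix.adjugate_fin_two]

theorem mem_borelGL {g : GLtwo F} : g ∈ borelGL F ↔ g.val 1 0 = 0 := by
  show Matrix.BlockTriangular _ id ↔ _
  refine ⟨fun h => h (show id (0 : Fin 2) < id 1 by decide), fun h i j hij => ?_⟩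
  fin_cases i <;> fin_cases j <;> simp_all

theorem cp_eq (M : Matrix (Fin 2) (Fin 2) F) (r : F) :
    cp M r = r ^ 2 - M.trace * r + M.det := by
  rw [cp, Matrix.trace_fin_two, Matrix.det_fin_two]

theorem cp_conj (g y : GLtwo F) (r : F) : cp (y⁻¹ * g * y).val r = cp g.val r := by
  rw [cp_eq, cp_eq, Units.val_mul, Units.val_mul, Matrix.trace_units_conj', Matrix.det_units_conj']

theorem IsEll.ten_ne {g : GLtwo F} (h : IsEll g) : g.val 1 0 ≠ 0 := fun h0 => h (g.val 0 0) (by
  rw [cp, h0]; ring)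

theorem IsEll.not_borel {g : GLtwo F} (h : IsEll g) (y : GLtwo F) : y⁻¹ * g * y ∉ borelGL F :=
  fun hy => h ((y⁻¹ * g * y).val 0 0) (by
    rw [← cp_conj g y, cp, mem_borelGL.mp hy]; ring)

theorem mem_center_GL {g : GLtwo F} :
    g ∈ Subgroup.center (GLtwo F) ↔ g.val 0 1 = 0 ∧ g.val 1 0 = 0 ∧ g.val 0 0 = g.val 1 1 := by
  refine ⟨fun h => ?_, fun ⟨h01, h10, h00⟩ => Subgroup.mem_center_iff.mpr fun y => ?_⟩
  · have h1 := Subgroup.mem_center_iff.mp h (mk2 1 1 0 1 (by simp))
    have h2 := Subgroup.mem_center_iff.mp h (mk2 1 0 1 1 (by simp))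
    have a1 := congrArg (fun x : GLtwo F => x.val 0 0) h1
    have b1 := congrArg (fun x : GLtwo F => x.val 0 1) h1
    have a2 := congrArg (fun x : GLtwo F => x.val 0 0) h2
    simp [mul_entry, mk2_val] at a1 b1 a2
    exact ⟨a2, a1, by linear_combination -b1⟩
  · apply gl_ext <;> simp only [mul_entry, h01, h10, h00] <;> ring

/-- The conjugate element: `det g • g⁻¹`. -/
noncomputable def adjGL (g : GLtwo F) : GLtwo F :=
  mk2 (g.val 1 1) (-g.val 0 1) (-g.val 1 0) (g.val 0 0)
    (by have := det_ne g; contrapose this; linear_combination this)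

theorem adjGL_mul (g h : GLtwo F) : adjGL (g * h) = adjGL h * adjGL g := by
  apply gl_ext <;> simp [mul_entry, adjGL, mk2_val] <;> ring

theorem adjGL_one : adjGL (1 : GLtwo F) = 1 := by
  apply gl_ext <;> simp [adjGL, mk2_val]

theorem adjGL_adjGL (g : GLtwo F) : adjGL (adjGL g) = g := by
  apply gl_ext <;> simp [adjGL, mk2_val]

theorem adjGL_comm {g h : GLtwo F} (hc : h * g = g * h) : adjGL h * g = g * adjGL h := by
  have a := congrArg (fun x : GLtwo F => x.val 0 0) hc
  have b := congrArg (fun x : GLtwo F => x.val 0 1) hc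
  have c := congrArg (fun x : GLtwo F => x.val 1 0) hc
  simp only [mul_entry] at a b c
  apply gl_ext <;> simp [mul_entry, adjGL, mk2_val]
  · linear_combination -a
  · linear_combination -b
  · linear_combination -c
  · linear_combination a

/-- The centralizer of an element with a non-zero lower left entry is spanned by `1` and it. -/
theorem exists_coords {g h : GLtwo F} (hg : g.val 1 0 ≠ 0) (hc : h * g = g * h) :
    ∃ x y : F, h.val 0 0 = x + y * g.val 0 0 ∧ h.val 0 1 = y * g.val 0 1 ∧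
      h.val 1 0 = y * g.val 1 0 ∧ h.val 1 1 = x + y * g.val 1 1 := by
  have a := congrArg (fun x : GLtwo F => x.val 0 0) hc
  have c := congrArg (fun x : GLtwo F => x.val 1 0) hc
  simp only [mul_entry] at a c
  set y := h.val 1 0 / g.val 1 0 with hy
  have hy' : y * g.val 1 0 = h.val 1 0 := div_mul_cancel₀ _ hg
  refine ⟨h.val 0 0 - y * g.val 0 0, y, by ring, ?_, hy'.symm, ?_⟩
  · apply mul_right_cancel₀ hg
    linear_combination a - g.val 0 1 * hy'
  · apply mul_right_cancel₀ hg
    linear_combination c + (g.val 0 0 - g.val 1 1) * hy'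

theorem comm_of_coords {g h k : GLtwo F} (hg : g.val 1 0 ≠ 0) (hh : h * g = g * h)
    (hk : k * g = g * k) : h * k = k * h := by
  obtain ⟨x, y, e1, e2, e3, e4⟩ := exists_coords hg hh
  obtain ⟨u, v, f1, f2, f3, f4⟩ := exists_coords hg hk
  apply gl_ext <;> simp only [mul_entry, e1, e2, e3, e4, f1, f2, f3, f4] <;> ring

theorem det_coords_ne {g : GLtwo F} (hg : IsEll g) {x y : F} (h : x ≠ 0 ∨ y ≠ 0) :
    (x + y * g.val 0 0) * (x + y * g.val 1 1) - y * g.val 0 1 * (y * g.val 1 0) ≠ 0 := by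
  rcases eq_or_ne y 0 with rfl | hy
  · have hx : x ≠ 0 := h.resolve_right fun h => h rfl
    simpa using hx
  · intro h0
    refine hg (-x / y) (mul_left_cancel₀ (pow_ne_zero 2 hy) ?_)
    rw [mul_zero, ← h0, cp]
    field_simp
    ring

theorem ell_of_comm {g h : GLtwo F} (hg : IsEll g) (hc : h * g = g * h)
    (hn : h ∉ Subgroup.center (GLtwo F)) : IsEll h := fun r hr => by
  obtain ⟨x, y, e1, e2, e3, e4⟩ := exists_coords hg.ten_ne hc
  have hy : y ≠ 0 := fun h0 => hn (mem_center_GL.mpr ⟨by rw [e2, h0, zero_mul],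
    by rw [e3, h0, zero_mul], by rw [e1, e4, h0, zero_mul, zero_mul]⟩)
  refine det_coords_ne hg (x := x - r) (Or.inr hy) ?_
  rw [← hr, cp, e1, e2, e3, e4]
  ring

theorem eq_or_eq_adj {g c z : GLtwo F} (hg : IsEll g) (hc : c * g = g * c) (hz : z * g = g * z)
    (ht : z.val 0 0 + z.val 1 1 = c.val 0 0 + c.val 1 1)
    (hd : z.val 0 0 * z.val 1 1 - z.val 0 1 * z.val 1 0 =
      c.val 0 0 * c.val 1 1 - c.val 0 1 * c.val 1 0) : z = c ∨ z = adjGL c := by
  obtain ⟨x, y, e1, e2, e3, e4⟩ := exists_coords hg.ten_ne hz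
  obtain ⟨u, v, f1, f2, f3, f4⟩ := exists_coords hg.ten_ne hc
  rw [e1, e2, e3, e4, f1, f2, f3, f4] at hd
  rw [e1, e4, f1, f4] at ht
  set t := g.val 0 0 + g.val 1 1 with htr
  set D := g.val 0 0 * g.val 1 1 - g.val 0 1 * g.val 1 0 with hD
  have q1 : (x - u) * (x - u - v * t) - (y - v) * (y + v) * D = 0 := by
    rw [htr, hD]; linear_combination x * ht - hd
  have q2 : (x - u) * (y + v) + (y - v) * (x - u - v * t) + (y - v) * (y + v) * t = 0 := by
    rw [htr]; linear_combination y * ht
  by_cases h : x = u ∧ y = v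
  · left
    apply gl_ext <;> simp only [e1, e2, e3, e4, f1, f2, f3, f4, h.1, h.2]
  · right
    have hN := det_coords_ne hg (x := x - u) (y := y - v)
      (by
        by_contra h'
        rw [not_or, not_not, not_not, sub_eq_zero, sub_eq_zero] at h'
        exact h h')
    have r1 : x - u - v * t = 0 := (mul_eq_zero.mp (show
      ((x - u + (y - v) * g.val 0 0) * (x - u + (y - v) * g.val 1 1) -
        (y - v) * g.val 0 1 * ((y - v) * g.val 1 0)) * (x - u - v * t) = 0 by
      rw [htr] at q1 q2 ⊢; rw [hD] at q1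
      linear_combination (x - u + (y - v) * (g.val 0 0 + g.val 1 1)) * q1 +
        (y - v) * (g.val 0 0 * g.val 1 1 - g.val 0 1 * g.val 1 0) * q2)).resolve_left hN
    have r2 : y + v = 0 := (mul_eq_zero.mp (show
      ((x - u + (y - v) * g.val 0 0) * (x - u + (y - v) * g.val 1 1) -
        (y - v) * g.val 0 1 * ((y - v) * g.val 1 0)) * (y + v) = 0 by
      rw [htr] at q1 q2; rw [hD] at q1
      linear_combination (x - u) * q2 - (y - v) * q1)).resolve_left hN
    rw [htr] at r1
    apply gl_ext <;> simp [adjGL, mk2_val, e1, e2, e3, e4, f1, f2, f3, f4]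
    · linear_combination r1 + g.val 0 0 * r2
    · linear_combination g.val 0 1 * r2
    · linear_combination g.val 1 0 * r2
    · linear_combination r1 + g.val 1 1 * r2

theorem exists_conj_of_trace_det {c z : GLtwo F} (hc : c.val 1 0 ≠ 0) (hz : z.val 1 0 ≠ 0)
    (ht : z.val 0 0 + z.val 1 1 = c.val 0 0 + c.val 1 1)
    (hd : z.val 0 0 * z.val 1 1 - z.val 0 1 * z.val 1 0 =
      c.val 0 0 * c.val 1 1 - c.val 0 1 * c.val 1 0) : ∃ y : GLtwo F, y⁻¹ * c * y = z := by
  have key : ∀ h : GLtwo F, ∀ h10 : h.val 1 0 ≠ 0,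
      h * mk2 1 (h.val 0 0) 0 (h.val 1 0) (by simpa using h10) =
        mk2 1 (h.val 0 0) 0 (h.val 1 0) (by simpa using h10) *
          mk2 0 (-(h.val 0 0 * h.val 1 1 - h.val 0 1 * h.val 1 0)) 1 (h.val 0 0 + h.val 1 1)
            (by have := det_ne h; contrapose this; linear_combination this) := fun h h10 => by
    apply gl_ext <;> simp [mul_entry, mk2_val] <;> ring
  have k1 := key c hc
  have k2 := key z hz
  set P := mk2 1 (c.val 0 0) 0 (c.val 1 0) (by simpa using hc)
  set Q := mk2 1 (z.val 0 0) 0 (z.val 1 0) (by simpa using hz)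
  refine ⟨P * Q⁻¹, ?_⟩
  simp only [ht, hd] at k2
  calc (P * Q⁻¹)⁻¹ * c * (P * Q⁻¹) = Q * P⁻¹ * (c * P) * Q⁻¹ := by group
    _ = z := by rw [k1, mul_assoc Q, inv_mul_cancel_left, ← k2, mul_inv_cancel_right]

/-- The diagonal of an upper triangular element. -/
noncomputable def glEntry (F : Type*) [Field F] : borelGL F →* Fˣ × Fˣ where
  toFun b := (Units.mk0 ((b : GLtwo F).val 0 0) (fun h => det_ne (b : GLtwo F) (by
      rw [mem_borelGL.mp b.2, h]; ring)),
    Units.mk0 ((b : GLtwo F).val 1 1) (fun h => det_ne (b : GLtwo F) (by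
      rw [mem_borelGL.mp b.2, h]; ring)))
  map_one' := Prod.ext (Units.ext (by simp)) (Units.ext (by simp))
  map_mul' a b := Prod.ext
    (Units.ext (by simp [Subgroup.coe_mul, mul_entry, mem_borelGL.mp b.2]))
    (Units.ext (by simp [Subgroup.coe_mul, mul_entry, mem_borelGL.mp a.2]))

/-- Coordinates on the upper triangular subgroup. -/
noncomputable def glEquiv (F : Type*) [Field F] : (Fˣ × Fˣ) × F ≃ borelGL F where
  toFun p := ⟨mk2 (p.1.1 : F) p.2 0 (p.1.2 : F) (by simp),
    mem_borelGL.mpr (by simp [mk2_val])⟩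
  invFun b := (glEntry F b, (b : GLtwo F).val 0 1)
  left_inv p := Prod.ext (Prod.ext (Units.ext (by simp [glEntry, mk2_val]))
    (Units.ext (by simp [glEntry, mk2_val]))) (by simp [mk2_val])
  right_inv b := Subtype.ext (by
    have h := mem_borelGL.mp b.2
    apply gl_ext <;> simp [glEntry, mk2_val, h])

theorem glEquiv_val (a b : Fˣ) (x : F) :
    ((glEquiv F ((a, b), x) : borelGL F) : GLtwo F).val = !![(a : F), x; 0, (b : F)] := rfl

theorem conj_borel_10 (y g : GLtwo F) (hg : g.val 1 0 = 0) :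
    y⁻¹ * g * y ∈ borelGL F ↔
      y.val 1 0 * ((g.val 1 1 - g.val 0 0) * y.val 0 0 - g.val 0 1 * y.val 1 0) = 0 := by
  have hd : y.val.det⁻¹ ≠ 0 := inv_ne_zero (Matrix.GeneralLinearGroup.det_ne_zero y)
  rw [mem_borelGL, mul_entry, mul_entry, mul_entry, inv_val, hg]
  simp only [Matrix.smul_apply, smul_eq_mul, Matrix.of_apply, Matrix.cons_val_zero,
    Matrix.cons_val_one, Matrix.cons_val', Matrix.empty_val', Matrix.cons_val_fin_one]
  constructor <;> intro h
  · refine (mul_eq_zero.mp (?_ : y.val.det⁻¹ * _ = 0)).resolve_left hd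
    linear_combination h
  · linear_combination y.val.det⁻¹ * h

theorem central_of_eq {a : Fˣ × Fˣ} (ha : a.swap = a) :
    (glEquiv F (a, 0) : GLtwo F) ∈ Subgroup.center (GLtwo F) := by
  obtain ⟨a, b⟩ := a
  obtain ⟨rfl, -⟩ := Prod.mk.inj (show (b, a) = (a, b) from ha)
  exact mem_center_GL.mpr (by simp [glEquiv_val])

variable [Fintype F]

theorem card_centralizer_ell {g : GLtwo F} (hg : IsEll g) :
    Nat.card (Subgroup.centralizer ({g} : Set (GLtwo F))) = Fintype.card F ^ 2 - 1 := by
  classical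
  have hnum : Nat.card {p : F × F // p ≠ 0} = Fintype.card F ^ 2 - 1 := by
    rw [Nat.card_eq_fintype_card, Fintype.card_subtype_compl, Fintype.card_prod,
      Fintype.card_subtype_eq, pow_two]
  rw [← hnum]
  have hdet : ∀ p : {p : F × F // p ≠ 0},
      (p.1.1 + p.1.2 * g.val 0 0) * (p.1.1 + p.1.2 * g.val 1 1) -
        p.1.2 * g.val 0 1 * (p.1.2 * g.val 1 0) ≠ 0 := fun p => det_coords_ne hg (by
    by_contra h
    rw [not_or, not_not, not_not] at h
    exact p.2 (Prod.ext h.1 h.2))
  let f : {p : F × F // p ≠ 0} → Subgroup.centralizer ({g} : Set (GLtwo F)) := fun p =>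
    ⟨mk2 _ _ _ _ (hdet p), Subgroup.mem_centralizer_singleton_iff.mpr (by
      apply gl_ext <;> simp [mul_entry, mk2_val] <;> ring)⟩
  refine (Nat.card_congr (Equiv.ofBijective f ⟨fun p p' h => ?_, fun c => ?_⟩)).symm
  · have h0 := congrArg (fun c : Subgroup.centralizer ({g} : Set (GLtwo F)) => c.1.val 0 0) h
    have h1 := congrArg (fun c : Subgroup.centralizer ({g} : Set (GLtwo F)) => c.1.val 1 0) h
    simp [f, mk2_val] at h0 h1
    have h1' := h1.resolve_right hg.ten_ne
    rw [h1'] at h0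
    exact Subtype.ext (Prod.ext (add_right_cancel h0) h1')
  · obtain ⟨x, y, e1, e2, e3, e4⟩ :=
      exists_coords hg.ten_ne (Subgroup.mem_centralizer_singleton_iff.mp c.2)
    refine ⟨⟨(x, y), fun h => det_ne c.1 ?_⟩, Subtype.ext (by
      apply gl_ext <;> simp [f, mk2_val, e1, e2, e3, e4])⟩
    rw [Prod.mk_eq_zero] at h
    rw [e1, e2, e3, e4, h.1, h.2]; ring

theorem adj_ne_self {c : GLtwo F} (hc : IsEll c) : adjGL c ≠ c := fun h => by
  have a := congrArg (fun x : GLtwo F => x.val 0 0) h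
  have b := congrArg (fun x : GLtwo F => x.val 1 0) h
  simp [adjGL, mk2_val] at a b
  by_cases h2 : (2 : F) = 0
  · obtain ⟨r, hr⟩ := FiniteField.isSquare_of_char_two
      ((CharP.ringChar_of_prime_eq_zero Nat.prime_two (by exact_mod_cast h2)))
      (c.val 0 0 * c.val 1 1 - c.val 0 1 * c.val 1 0)
    refine hc r ?_
    rw [cp, hr, a]
    linear_combination (r * r - c.val 0 0 * r) * h2
  · exact hc.ten_ne ((mul_eq_zero.mp
      (show (2 : F) * c.val 1 0 = 0 by linear_combination -b)).resolve_left h2)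

/-- The rank one datum of `GL₂` attached to an element without eigenvalue. -/
noncomputable def glDatum {g : GLtwo F} (hg : IsEll g) : Datum (GLtwo F) (Fˣ × Fˣ) F where
  B := borelGL F
  C := Subgroup.centralizer ({g} : Set (GLtwo F))
  e := glEquiv F
  d := glEntry F
  d_e a x := Prod.ext (Units.ext (by simp [glEntry, glEquiv, mk2_val]))
    (Units.ext (by simp [glEntry, glEquiv, mk2_val]))
  o := 0
  e_one := Subtype.ext (by apply gl_ext <;> simp [glEquiv, mk2_val])
  τ := (MulEquiv.prodComm : Fˣ × Fˣ ≃* Fˣ × Fˣ).toMonoidHom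
  τ_τ a := rfl
  σ :=
    { toFun := fun c => ⟨adjGL (c : GLtwo F), Subgroup.mem_centralizer_singleton_iff.mpr
        (adjGL_comm (Subgroup.mem_centralizer_singleton_iff.mp c.2))⟩
      map_one' := Subtype.ext adjGL_one
      map_mul' := fun a b => Subtype.ext (by
        show adjGL ((a : GLtwo F) * (b : GLtwo F)) = adjGL (a : GLtwo F) * adjGL (b : GLtwo F)
        rw [adjGL_mul]
        exact comm_of_coords hg.ten_ne
          (adjGL_comm (Subgroup.mem_centralizer_singleton_iff.mp b.2))
          (adjGL_comm (Subgroup.mem_centralizer_singleton_iff.mp a.2))) }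
  σ_σ c := Subtype.ext (adjGL_adjGL _)
  C_comm a b := Subtype.ext (comm_of_coords hg.ten_ne
    (Subgroup.mem_centralizer_singleton_iff.mp a.2) (Subgroup.mem_centralizer_singleton_iff.mp b.2))
  two_le := by rw [Nat.card_eq_fintype_card]; exact Fintype.one_lt_card
  index_B := by
    classical
    have h := (borelGL F).card_mul_index
    rw [← Nat.card_congr (glEquiv F), Nat.card_prod, Nat.card_prod, Nat.card_units,
      Matrix.card_GL_field, Fin.prod_univ_two, Nat.card_eq_fintype_card] at h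
    rw [Nat.card_eq_fintype_card]
    obtain ⟨k, hk⟩ := Nat.exists_eq_add_of_le' (Fintype.one_lt_card (α := F))
    simp only [hk, Fin.val_zero, Fin.val_one, pow_zero, pow_one,
      show k + 1 + 1 - 1 = k + 1 from rfl] at h ⊢
    rw [show (k + 1 + 1) ^ 2 - 1 = (k + 1) * (k + 3) from Nat.sub_eq_of_eq_add (by ring),
      show (k + 1 + 1) ^ 2 - (k + 1 + 1) = (k + 1 + 1) * (k + 1) from
        Nat.sub_eq_of_eq_add (by ring)] at h
    refine Nat.eq_of_mul_eq_mul_left (show 0 < (k + 1) * (k + 1) * (k + 1 + 1) by positivity)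
      (h.trans ?_)
    ring
  index_C := by
    classical
    have h := (Subgroup.centralizer ({g} : Set (GLtwo F))).card_mul_index
    rw [card_centralizer_ell hg, Matrix.card_GL_field, Fin.prod_univ_two] at h
    rw [Nat.card_eq_fintype_card]
    refine Nat.eq_of_mul_eq_mul_left (show 0 < Fintype.card F ^ 2 - 1 from
      Nat.sub_pos_of_lt (Nat.one_lt_pow two_ne_zero Fintype.one_lt_card)) (h.trans ?_)
    simp only [Fin.val_zero, Fin.val_one, pow_zero, pow_one]
    congr 1
    rw [Nat.mul_sub, mul_one, ← pow_two]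
  central a ha := central_of_eq ha
  central_mem_C a ha := Subgroup.mem_centralizer_singleton_iff.mpr
    (Subgroup.mem_center_iff.mp (central_of_eq ha) g).symm
  parab a x ha hx y hy := by
    obtain ⟨a, b⟩ := a
    obtain ⟨rfl, -⟩ := Prod.mk.inj (show (b, a) = (a, b) from ha)
    rw [conj_borel_10 _ _ (by simp [glEquiv_val])] at hy
    simp [glEquiv_val] at hy
    exact mem_borelGL.mpr (hy.elim id fun h => h.resolve_left hx)
  split a x ha := by
    obtain ⟨a, b⟩ := a
    have hne : (b : F) - (a : F) ≠ 0 := sub_ne_zero.mpr fun h => ha (by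
      show (b, a) = (a, b)
      rw [Units.ext h])
    set r := x / ((b : F) - (a : F)) with hr
    have hrx : r * ((b : F) - (a : F)) = x := div_mul_cancel₀ _ hne
    let y : GLtwo F := mk2 r (-1) 1 0 (by simp)
    have hy1 : y⁻¹ * (glEquiv F ((a, b), x) : GLtwo F) * y ∈ borelGL F := by
      rw [conj_borel_10 _ _ (by simp [glEquiv_val])]
      simp [glEquiv_val, y, mk2_val]
      linear_combination hrx
    refine ⟨y, fun h => one_ne_zero (α := F) ?_, ⟨hy1, ?_⟩, fun z hz => ?_⟩
    · simpa [y, mk2_val] using mem_borelGL.mp h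
    · refine Prod.ext (Units.ext ?_) (Units.ext ?_)
      · show (y⁻¹ * (glEquiv F ((a, b), x) : GLtwo F) * y).val 0 0 = (b : F)
        rw [mul_entry, mul_entry, mul_entry, inv_val]
        simp [glEquiv_val, y, mk2_val]
      · show (y⁻¹ * (glEquiv F ((a, b), x) : GLtwo F) * y).val 1 1 = (a : F)
        rw [mul_entry, mul_entry, mul_entry, inv_val]
        simp [glEquiv_val, y, mk2_val]
    · rw [conj_borel_10 _ _ (by simp [glEquiv_val])] at hz
      simp only [glEquiv_val, Matrix.of_apply, Matrix.cons_val_zero, Matrix.cons_val_one,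
        Matrix.cons_val', Matrix.empty_val', Matrix.cons_val_fin_one, mul_eq_zero] at hz
      refine hz.imp mem_borelGL.mpr fun h => mem_borelGL.mpr ?_
      rw [mul_entry, inv_val]
      simp [y, mk2_val]
      refine (mul_eq_zero.mp (show ((b : F) - (a : F)) * (-z.val 0 0 + r * z.val 1 0) = 0 by
        linear_combination z.val 1 0 * hrx - h)).resolve_left hne
  center_C c hc := by
    obtain ⟨h01, h10, h00⟩ := mem_center_GL.mp hc
    have hb : (c : GLtwo F) ∈ borelGL F := mem_borelGL.mpr h10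
    refine ⟨glEntry F ⟨_, hb⟩, Prod.ext (Units.ext h00.symm) (Units.ext h00), ?_⟩
    have := (glEquiv F).apply_symm_apply ⟨_, hb⟩
    rw [show (glEquiv F).symm ⟨_, hb⟩ = (glEntry F ⟨_, hb⟩, 0) from Prod.ext rfl h01] at this
    rw [this]
  torus_not_B c hc y :=
    (ell_of_comm hg (Subgroup.mem_centralizer_singleton_iff.mp c.2) hc).not_borel y
  torus_centralizer c hc y hy := by
    have hcg := Subgroup.mem_centralizer_singleton_iff.mp c.2
    exact Subgroup.mem_centralizer_singleton_iff.mpr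
      (comm_of_coords (ell_of_comm hg hcg hc).ten_ne hy hcg.symm)
  torus_conj c hc := by
    have he := ell_of_comm hg (Subgroup.mem_centralizer_singleton_iff.mp c.2) hc
    refine exists_conj_of_trace_det he.ten_ne ?_ ?_ ?_
    · simpa [adjGL, mk2_val] using he.ten_ne
    · simp [adjGL, mk2_val, add_comm]
    · simp [adjGL, mk2_val]; ring
  torus_fusion c hc y hy := by
    have h1 : (y⁻¹ * (c : GLtwo F) * y).val.trace = (c : GLtwo F).val.trace := by
      rw [Units.val_mul, Units.val_mul, Matrix.trace_units_conj']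
    have h2 : (y⁻¹ * (c : GLtwo F) * y).val.det = (c : GLtwo F).val.det := by
      rw [Units.val_mul, Units.val_mul, Matrix.det_units_conj']
    rw [Matrix.trace_fin_two, Matrix.trace_fin_two] at h1
    rw [Matrix.det_fin_two, Matrix.det_fin_two] at h2
    exact eq_or_eq_adj hg (Subgroup.mem_centralizer_singleton_iff.mp c.2)
      (Subgroup.mem_centralizer_singleton_iff.mp hy) h1 h2
  σ_ne c hc h :=
    adj_ne_self (ell_of_comm hg (Subgroup.mem_centralizer_singleton_iff.mp c.2) hc)
      (congrArg Subtype.val h)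
  σ_center c hc := by
    obtain ⟨h01, h10, h00⟩ := mem_center_GL.mp hc
    refine Subtype.ext ?_
    show adjGL (c : GLtwo F) = c
    apply gl_ext <;> simp [adjGL, mk2_val, h01, h10, h00]

end Cfsg.Agent.Lib.RankSeries
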