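import Cfsg.Agent.Lib.RankSeries.GLDatum
import Cfsg.Agent.Lib.SL2.ToriExist
import Cfsg.Agent.Lib.SL2.Classes

/-!
# The irreducible characters of `GL₂`
-/

set_option autoImplicit false

namespace Cfsg.Agent.Lib.RankSeries

open Cfsg.Agent.Lib

attribute [-instance] MonoidHom.instPow MonoidHom.mul instOneMonoidHom MonoidHom.instCommMonoid
  MonoidHom.instInv MonoidHom.instDiv

variable {F : Type*} [Field F] [Fintype F]

local notation "qF" => Fintype.card F

theorem exists_ell : ∃ g : GLtwo F, IsEll g := by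
  obtain ⟨g, hg⟩ := SL2.exists_elliptic (F := F)
  refine ⟨Matrix.SpecialLinearGroup.toGL g, fun r hr => hg r ?_⟩
  have hd := SL2.det_entries g
  rw [cp] at hr
  simp [SL2.tr] at hr ⊢
  linear_combination hr - hd

theorem ell_of_noEigen {g : GLtwo F}
    (h : ∀ (c : F) (v : Fin 2 → F), v ≠ 0 → g.val.mulVec v ≠ c • v) : IsEll g := fun r hr => by
  by_cases h10 : g.val 1 0 = 0
  · refine h (g.val 0 0) ![1, 0] (fun e => one_ne_zero (congrFun e 0)) ?_
    ext i
    fin_cases i <;> simp [Matrix.mulVec, Matrix.vecHead, Matrix.vecTail, h10]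
  · refine h r ![r - g.val 1 1, g.val 1 0] (fun e => h10 (congrFun e 1)) ?_
    ext i
    rw [cp] at hr
    fin_cases i <;> simp [Matrix.mulVec, Matrix.vecHead, Matrix.vecTail]
    · linear_combination -hr
    · ring

/-- An element of the upper triangular subgroup in coordinates. -/
theorem eq_glEquiv {g : GLtwo F} (h10 : g.val 1 0 = 0) :
    ∃ (a b : Fˣ), (a : F) = g.val 0 0 ∧ (b : F) = g.val 1 1 ∧
      g = (glEquiv F ((a, b), g.val 0 1) : GLtwo F) := by
  refine ⟨(glEntry F ⟨g, mem_borelGL.mpr h10⟩).1, (glEntry F ⟨g, mem_borelGL.mpr h10⟩).2,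
    rfl, rfl, gl_ext ?_ ?_ ?_ ?_⟩ <;> simp [glEquiv_val, glEntry, h10]

theorem det_glEquiv (a b : Fˣ) (x : F) :
    Matrix.GeneralLinearGroup.det (glEquiv F ((a, b), x) : GLtwo F) = a * b :=
  Units.ext (by simp [glEquiv_val, Matrix.det_fin_two])

/-- The linear character of `GL₂` attached to a character of `Fˣ`. -/
noncomputable def linGL (ν : Fˣ →* ℂˣ) : GLtwo F → ℂ :=
  fun g => (ν (Matrix.GeneralLinearGroup.det g) : ℂ)

variable [DecidableEq F] {g₀ : GLtwo F} (hg : IsEll g₀)

/-- A Steinberg character twisted by a linear character. -/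
noncomputable def twistSt (ν : Fˣ →* ℂˣ) : GLtwo F → ℂ :=
  fun g => linGL ν g * (glDatum hg).St g

omit [DecidableEq F] in
theorem linGL_e (ν : Fˣ →* ℂˣ) (a b : Fˣ) (x : F) :
    linGL ν (glEquiv F ((a, b), x) : GLtwo F) = (ν (a * b) : ℂ) := by
  rw [linGL, det_glEquiv]

omit [DecidableEq F] in
theorem linGL_one (ν : Fˣ →* ℂˣ) : linGL ν (1 : GLtwo F) = 1 := by simp [linGL]

omit [DecidableEq F] in
theorem linGL_irr (ν : Fˣ →* ℂˣ) : IsIrrCharacter (GLtwo F) (linGL ν) :=
  Chars.isIrrCharacter_of_hom (ν.comp Matrix.GeneralLinearGroup.det)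

theorem twistSt_irr (ν : Fˣ →* ℂˣ) : IsIrrCharacter (GLtwo F) (twistSt hg ν) :=
  Chars.isIrrCharacter_hom_mul (ν.comp Matrix.GeneralLinearGroup.det) (glDatum hg).St_irr

theorem twistSt_one (ν : Fˣ →* ℂˣ) : twistSt hg ν 1 = (qF : ℂ) := by
  rw [twistSt, linGL_one, one_mul, (glDatum hg).St_one, Nat.card_eq_fintype_card]

theorem twistSt_parab (ν : Fˣ →* ℂˣ) (a : Fˣ) {x : F} (hx : x ≠ 0) :
    twistSt hg ν (glEquiv F ((a, a), x) : GLtwo F) = 0 := by
  have h := (glDatum hg).R_parab 1 (a := (a, a)) rfl (x := x) hx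
  rw [twistSt, Datum.St_apply, show (glEquiv F ((a, a), x) : GLtwo F) =
    ((glDatum hg).e ((a, a), x) : GLtwo F) from rfl, h]
  simp

theorem twistSt_split (ν : Fˣ →* ℂˣ) {a b : Fˣ} (hab : a ≠ b) (x : F) :
    twistSt hg ν (glEquiv F ((a, b), x) : GLtwo F) = (ν (a * b) : ℂ) := by
  have h := (glDatum hg).R_split 1 (a := (a, b)) x (fun e => hab (Prod.mk.inj e).1.symm)
  rw [twistSt, linGL_e, Datum.St_apply, show (glEquiv F ((a, b), x) : GLtwo F) =
    ((glDatum hg).e ((a, b), x) : GLtwo F) from rfl, h]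
  simp

theorem R_ell (μ : Fˣ × Fˣ →* ℂˣ) {h : GLtwo F} (hh : IsEll h) : (glDatum hg).R μ h = 0 :=
  indFun_eq_zero _ _ fun y => hh.not_borel y

theorem twistSt_ell (ν : Fˣ →* ℂˣ) {h : GLtwo F} (hh : IsEll h) :
    twistSt hg ν h = -linGL ν h := by
  rw [twistSt, Datum.St_apply, R_ell hg 1 hh]
  ring

theorem princ_unip {χ : GLtwo F → ℂ} (hχ : χ ∈ (glDatum hg).princSet) {x : F} (hx : x ≠ 0) :
    χ (glEquiv F ((1, 1), x) : GLtwo F) = 1 := by
  obtain ⟨μ, -, rfl⟩ := (glDatum hg).mem_princSet.mp hχ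
  have h := (glDatum hg).R_parab μ (a := (1, 1)) rfl (x := x) hx
  rw [show (glEquiv F ((1, 1), x) : GLtwo F) = ((glDatum hg).e ((1, 1), x) : GLtwo F) from rfl, h]
  rw [Prod.mk_one_one, map_one, Units.val_one]

theorem disc_unip {χ : GLtwo F → ℂ} (hχ : χ ∈ (glDatum hg).discSet) {x : F} (hx : x ≠ 0) :
    χ (glEquiv F ((1, 1), x) : GLtwo F) = -1 := by
  obtain ⟨θ, -, rfl⟩ := (glDatum hg).mem_discSet.mp hχ
  have h := (glDatum hg).pi_parab (θ := θ) (μ := (glDatum hg).compatChoice θ) (a := (1, 1)) rfl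
    (x := x) hx
  show (glDatum hg).pi θ _ _ = _
  rw [show (glEquiv F ((1, 1), x) : GLtwo F) = ((glDatum hg).e ((1, 1), x) : GLtwo F) from rfl, h]
  rw [Prod.mk_one_one, map_one, Units.val_one]

theorem gl_princ_one {χ : GLtwo F → ℂ} (hχ : χ ∈ (glDatum hg).princSet) :
    χ 1 = (qF : ℂ) + 1 := by
  rw [(glDatum hg).princSet_one hχ, Nat.card_eq_fintype_card]

theorem gl_disc_one {χ : GLtwo F → ℂ} (hχ : χ ∈ (glDatum hg).discSet) :
    χ 1 = (qF : ℂ) - 1 := by
  rw [(glDatum hg).discSet_one hχ, Nat.card_eq_fintype_card]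

theorem card_fixed_mu_GL :
    Nat.card {μ : Fˣ × Fˣ →* ℂˣ // μ.comp (glDatum hg).τ = μ} = qF - 1 := by
  let E : {μ : Fˣ × Fˣ →* ℂˣ // μ.comp (glDatum hg).τ = μ} ≃ (Fˣ →* ℂˣ) :=
    { toFun := fun μ => μ.1.comp (MonoidHom.inl Fˣ Fˣ)
      invFun := fun ν => ⟨ν.comp mulMonoidHom, MonoidHom.ext fun a => by
        show ν (a.2 * a.1) = ν (a.1 * a.2)
        rw [mul_comm]⟩
      left_inv := fun μ => Subtype.ext (MonoidHom.ext fun a => by
        show μ.1 (a.1 * a.2, 1) = μ.1 a
        have h := DFunLike.congr_fun μ.2 (a.2, 1)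
        have h' : μ.1 (1, a.2) = μ.1 (a.2, 1) := h
        rw [show ((a.1 * a.2, 1) : Fˣ × Fˣ) = (a.1, 1) * (a.2, 1) from Prod.ext rfl (one_mul _).symm,
          map_mul, ← h', ← map_mul]
        simp)
      right_inv := fun ν => MonoidHom.ext fun a => by
        show ν (a * 1) = ν a
        rw [mul_one] }
  rw [Nat.card_congr E, CommGroup.card_monoidHom_of_hasEnoughRootsOfUnity Fˣ ℂ, Nat.card_units,
    Nat.card_eq_fintype_card]

theorem card_fixed_theta_GL :
    Nat.card {θ : (glDatum hg).C →* ℂˣ // θ.comp (glDatum hg).σ = θ} = qF - 1 := by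
  set Δ := glDatum hg with hΔ
  letI : CommGroup Δ.C := { (inferInstance : Group Δ.C) with mul_comm := Δ.C_comm }
  let f : Δ.C →* Δ.C :=
    { toFun := fun c => Δ.σ c * c⁻¹
      map_one' := by rw [map_one, inv_one, mul_one]
      map_mul' := fun a b => by rw [map_mul, mul_inv, mul_mul_mul_comm] }
  have hiff : ∀ θ : Δ.C →* ℂˣ, θ.comp Δ.σ = θ ↔ ∀ x ∈ f.range, θ x = 1 := fun θ => by
    constructor
    · rintro h x ⟨c, rfl⟩
      show θ (Δ.σ c * c⁻¹) = 1
      rw [map_mul, ← MonoidHom.comp_apply, h, map_inv, mul_inv_cancel]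
    · intro h
      refine MonoidHom.ext fun c => ?_
      have h' : θ (Δ.σ c * c⁻¹) = 1 := h _ ⟨c, rfl⟩
      rw [map_mul, map_inv, mul_inv_eq_one] at h'
      exact h'
  rw [Nat.card_congr ((Equiv.subtypeEquivRight hiff).trans (homsTrivialOn f.range)),
    CommGroup.card_monoidHom_of_hasEnoughRootsOfUnity (Δ.C ⧸ f.range) ℂ]
  have e1 := f.range.card_mul_index
  have e2 := f.ker.card_mul_index
  rw [Subgroup.index_ker] at e2
  have hker : Nat.card (Δ.C ⧸ f.range) = Nat.card f.ker := by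
    rw [← Subgroup.index_eq_card]
    refine Nat.eq_of_mul_eq_mul_left (Nat.card_pos (α := f.range)) ?_
    rw [e1, ← e2, mul_comm]
  rw [hker]
  let z : Fˣ → f.ker := fun a => ⟨Δ.zC ⟨(a, a), rfl⟩, by
    show Δ.σ _ * _ = 1
    rw [Δ.σ_center _ (Δ.zC_mem_center _), mul_inv_cancel]⟩
  have hz : Function.Bijective z := by
    refine ⟨fun a b h => (Prod.mk.inj (congrArg Subtype.val
      (Δ.zC_injective (congrArg Subtype.val h)))).1, fun c => ?_⟩
    have hc : (c.1 : GLtwo F) ∈ Subgroup.center (GLtwo F) := by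
      by_contra h
      exact Δ.σ_ne c.1 h (mul_inv_eq_one.mp c.2)
    obtain ⟨⟨a, b⟩, ha, he⟩ := Δ.center_C c.1 hc
    obtain ⟨rfl, -⟩ := Prod.mk.inj (show (b, a) = (a, b) from ha)
    exact ⟨b, Subtype.ext (Subtype.ext he)⟩
  rw [← Nat.card_congr (Equiv.ofBijective z hz), Nat.card_units, Nat.card_eq_fintype_card]

theorem card_gl_princ :
    2 * (glDatum hg).princSet.card + (qF - 1) = (qF - 1) * (qF - 1) := by
  have h := (glDatum hg).card_princSet
  rw [card_fixed_mu_GL, Nat.card_prod, Nat.card_units, Nat.card_eq_fintype_card] at h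
  exact h

theorem card_gl_disc : 2 * (glDatum hg).discSet.card + (qF - 1) = qF ^ 2 - 1 := by
  have h := (glDatum hg).card_discSet
  rw [card_fixed_theta_GL] at h
  exact h.trans (card_centralizer_ell hg)

omit [DecidableEq F] in
theorem linGL_injective : Function.Injective (linGL (F := F)) := fun ν ν' h =>
  MonoidHom.ext fun a => Units.ext (by
    have h' := congrFun h (glEquiv F ((a, 1), 0) : GLtwo F)
    rwa [linGL_e, linGL_e, mul_one] at h')

theorem twistSt_injective : Function.Injective (twistSt hg) := fun ν ν' h =>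
  MonoidHom.ext fun a => Units.ext (by
    by_cases ha : a = 1
    · rw [ha, map_one, map_one]
    · have h' := congrFun h (glEquiv F ((a, 1), 0) : GLtwo F)
      rwa [twistSt_split hg ν ha, twistSt_split hg ν' ha, mul_one] at h')

/-- The linear characters as a set. -/
noncomputable def linSet (F : Type*) [Field F] [Fintype F] : Finset (GLtwo F → ℂ) := by
  classical
  exact letI : Fintype (Fˣ →* ℂˣ) := Fintype.ofFinite _
    Finset.univ.image (linGL (F := F))

/-- The twisted Steinberg characters as a set. -/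
noncomputable def twistSet : Finset (GLtwo F → ℂ) := by
  classical
  exact letI : Fintype (Fˣ →* ℂˣ) := Fintype.ofFinite _
    Finset.univ.image (twistSt hg)

omit [DecidableEq F] in
theorem mem_linSet {χ : GLtwo F → ℂ} : χ ∈ linSet F ↔ ∃ ν, χ = linGL ν := by
  simp [linSet, eq_comm]

theorem mem_twistSet {χ : GLtwo F → ℂ} : χ ∈ twistSet hg ↔ ∃ ν, χ = twistSt hg ν := by
  simp [twistSet, eq_comm]

omit [DecidableEq F] in
theorem card_linSet : (linSet F).card = qF - 1 := by
  classical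
  letI : Fintype (Fˣ →* ℂˣ) := Fintype.ofFinite _
  rw [linSet, Finset.card_image_of_injective _ linGL_injective, Finset.card_univ,
    Fintype.card_eq_nat_card, CommGroup.card_monoidHom_of_hasEnoughRootsOfUnity Fˣ ℂ,
    Nat.card_units, Nat.card_eq_fintype_card]

theorem card_twistSet : (twistSet hg).card = qF - 1 := by
  classical
  letI : Fintype (Fˣ →* ℂˣ) := Fintype.ofFinite _
  rw [twistSet, Finset.card_image_of_injective _ (twistSt_injective hg), Finset.card_univ,
    Fintype.card_eq_nat_card, CommGroup.card_monoidHom_of_hasEnoughRootsOfUnity Fˣ ℂ,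
    Nat.card_units, Nat.card_eq_fintype_card]

/-- The four families are all the irreducible characters. -/
theorem gl_complete {χ : GLtwo F → ℂ} (hχ : IsIrrCharacter (GLtwo F) χ) :
    χ ∈ linSet F ∨ χ ∈ twistSet hg ∨ χ ∈ (glDatum hg).princSet ∨ χ ∈ (glDatum hg).discSet := by
  classical
  letI : DecidableEq (GLtwo F → ℂ) := Classical.decEq _
  set u : GLtwo F := (glEquiv F ((1, 1), 1) : GLtwo F) with hu
  have vL : ∀ φ ∈ linSet F, φ u = 1 ∧ φ 1 = 1 := fun φ h => by
    obtain ⟨ν, rfl⟩ := mem_linSet.mp h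
    rw [hu, linGL_e, linGL_one, mul_one, map_one, Units.val_one]
    exact ⟨rfl, rfl⟩
  have vS : ∀ φ ∈ twistSet hg, φ u = 0 := fun φ h => by
    obtain ⟨ν, rfl⟩ := (mem_twistSet hg).mp h
    exact twistSt_parab hg ν 1 one_ne_zero
  have vP : ∀ φ ∈ (glDatum hg).princSet, φ u = 1 ∧ φ 1 = (qF : ℂ) + 1 := fun φ h =>
    ⟨princ_unip hg h one_ne_zero, gl_princ_one hg h⟩
  have vD : ∀ φ ∈ (glDatum hg).discSet, φ u = -1 := fun φ h => disc_unip hg h one_ne_zero
  have d1 : Disjoint (linSet F) (twistSet hg) := Finset.disjoint_left.mpr fun φ h h' => by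
    have := (vL φ h).1
    rw [vS φ h'] at this
    exact zero_ne_one this
  have d2 : Disjoint (linSet F ∪ twistSet hg) (glDatum hg).princSet :=
    Finset.disjoint_left.mpr fun φ h h' => by
      rcases Finset.mem_union.mp h with h | h
      · have := (vL φ h).2
        rw [(vP φ h').2, add_eq_right] at this
        exact Nat.cast_ne_zero.mpr Fintype.card_ne_zero this
      · have := vS φ h
        rw [(vP φ h').1] at this
        exact one_ne_zero this
  have d3 : Disjoint (linSet F ∪ twistSet hg ∪ (glDatum hg).princSet) (glDatum hg).discSet :=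
    Finset.disjoint_left.mpr fun φ h h' => by
      have e := vD φ h'
      rcases Finset.mem_union.mp h with h | h
      · rcases Finset.mem_union.mp h with h | h
        · rw [(vL φ h).1] at e; norm_num at e
        · rw [vS φ h] at e; norm_num at e
      · rw [(vP φ h).1] at e; norm_num at e
  have hmem := mem_of_card_le
    (linSet F ∪ twistSet hg ∪ (glDatum hg).princSet ∪ (glDatum hg).discSet) (fun φ hφ => by
      simp only [Finset.mem_union] at hφ
      rcases hφ with ((h | h) | h) | h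
      · obtain ⟨ν, rfl⟩ := mem_linSet.mp h
        exact linGL_irr ν
      · obtain ⟨ν, rfl⟩ := (mem_twistSet hg).mp h
        exact twistSt_irr hg ν
      · exact (glDatum hg).princSet_irr h
      · exact (glDatum hg).discSet_irr h) (by
      rw [SL2.card_conjClasses_GL, Finset.card_union_of_disjoint d3,
        Finset.card_union_of_disjoint d2, Finset.card_union_of_disjoint d1, card_linSet,
        card_twistSet hg]
      have h1 := card_gl_princ hg
      have h2 := card_gl_disc hg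
      obtain ⟨k, hk⟩ := Nat.exists_eq_add_of_le'
        (show 2 ≤ qF from Fintype.one_lt_card (α := F))
      rw [hk] at h1 h2 ⊢
      have e1 : k + 2 - 1 = k + 1 := rfl
      rw [e1] at h1 h2 ⊢
      have e2 : (k + 2) ^ 2 - 1 = (k + 1) * (k + 1) + 2 * (k + 1) :=
        Nat.sub_eq_of_eq_add (by ring)
      omega) hχ
  simp only [Finset.mem_union, or_assoc] at hmem
  exact hmem

/-- The irreducible characters by family, with their degrees. -/
theorem gl_classify {χ : GLtwo F → ℂ} (hχ : IsIrrCharacter (GLtwo F) χ) :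
    (χ ∈ linSet F ∧ χ 1 = 1) ∨ (χ ∈ twistSet hg ∧ χ 1 = (qF : ℂ)) ∨
      (χ ∈ (glDatum hg).princSet ∧ χ 1 = (qF : ℂ) + 1) ∨
      (χ ∈ (glDatum hg).discSet ∧ χ 1 = (qF : ℂ) - 1) := by
  rcases gl_complete hg hχ with h | h | h | h
  · obtain ⟨ν, rfl⟩ := mem_linSet.mp h
    exact Or.inl ⟨h, linGL_one ν⟩
  · obtain ⟨ν, rfl⟩ := (mem_twistSet hg).mp h
    exact Or.inr (Or.inl ⟨h, twistSt_one hg ν⟩)
  · exact Or.inr (Or.inr (Or.inl ⟨h, gl_princ_one hg h⟩))
  · exact Or.inr (Or.inr (Or.inr ⟨h, gl_disc_one hg h⟩))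

end Cfsg.Agent.Lib.RankSeries
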