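import Cfsg.Agent.Lib.RankSeries.Data

/-!
# Irreducibility and pairing of the principal and discrete series
-/

set_option autoImplicit false

namespace Cfsg.Agent.Lib.RankSeries

open scoped ComplexConjugate
open Cfsg.Agent.Lib

attribute [-instance] MonoidHom.instPow MonoidHom.mul instOneMonoidHom MonoidHom.instCommMonoid
  MonoidHom.instInv MonoidHom.instDiv

universe u v w

/-- Counting the image of a map that identifies exactly the two points of each pair. -/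
theorem two_mul_card_image {X : Type*} {Y : Type*} [DecidableEq X] [DecidableEq Y] (s : Finset X)
    (i : X → X) (f : X → Y) (hi : ∀ a ∈ s, i a ∈ s ∧ i a ≠ a)
    (hf : ∀ a ∈ s, ∀ b ∈ s, f a = f b ↔ b = a ∨ b = i a) : 2 * (s.image f).card = s.card := by
  rw [Finset.card_eq_sum_card_image f s, Finset.sum_congr rfl (g := fun _ => 2) fun y hy => ?_,
    Finset.sum_const, smul_eq_mul, mul_comm]
  obtain ⟨a, ha, rfl⟩ := Finset.mem_image.mp hy
  have : s.filter (fun b => f b = f a) = {a, i a} := by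
    ext b
    simp only [Finset.mem_filter, Finset.mem_insert, Finset.mem_singleton]
    refine ⟨fun ⟨hb, he⟩ => (hf a ha b hb).mp he.symm, ?_⟩
    rintro (rfl | rfl)
    · exact ⟨ha, rfl⟩
    · exact ⟨(hi a ha).1, ((hf a ha _ (hi a ha).1).mpr (Or.inr rfl)).symm⟩
  rw [this, Finset.card_pair (hi a ha).2.symm]

/-- A family of irreducible characters as large as the class number is all of them. -/
theorem mem_of_card_le {G : Type*} [Group G] [Finite G] (S : Finset (G → ℂ))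
    (h : ∀ χ ∈ S, IsIrrCharacter G χ) (hcard : Nat.card (ConjClasses G) ≤ S.card) {χ : G → ℂ}
    (hχ : IsIrrCharacter G χ) : χ ∈ S := by
  classical
  cases nonempty_fintype G
  have : Fintype (IrrCharacter G) := Fintype.ofFinite _
  rw [← Chars.card_irrCharacter, Nat.card_eq_fintype_card] at hcard
  let T : Finset (IrrCharacter G) := Finset.univ.filter fun ψ => (ψ : G → ℂ) ∈ S
  have hT : S.card ≤ T.card := by
    refine Finset.card_le_card_of_surjOn (fun ψ : IrrCharacter G => (ψ : G → ℂ)) fun φ hφ => ?_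
    exact ⟨⟨φ, h φ hφ⟩, Finset.mem_coe.mpr (Finset.mem_filter.mpr ⟨Finset.mem_univ _, hφ⟩), rfl⟩
  have := Finset.eq_univ_of_card T (le_antisymm (Finset.card_le_univ T) (hcard.trans hT))
  exact (Finset.mem_filter.mp (this ▸ Finset.mem_univ (⟨χ, hχ⟩ : IrrCharacter G) :
    (⟨χ, hχ⟩ : IrrCharacter G) ∈ T)).2

/-- The irreducible characters satisfying `Q`, inside a complete finite family. -/
theorem natCard_irr_eq_card {G : Type*} [Group G] [Finite G] (S : Finset (G → ℂ))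
    (h : ∀ χ ∈ S, IsIrrCharacter G χ) (Q : (G → ℂ) → Prop)
    (hQ : ∀ χ, IsIrrCharacter G χ → (Q χ ↔ χ ∈ S)) :
    Nat.card {χ : IrrCharacter G // Q (χ : G → ℂ)} = S.card := by
  rw [← Fintype.card_coe, Fintype.card_eq_nat_card]
  exact Nat.card_congr
    { toFun := fun χ => ⟨_, (hQ _ χ.1.2).mp χ.2⟩
      invFun := fun φ => ⟨⟨φ.1, h _ φ.2⟩, (hQ _ (h _ φ.2)).mpr φ.2⟩
      left_inv := fun χ => rfl
      right_inv := fun φ => rfl }

/-- A hom from a quotient and one trivial on the subgroup are the same thing. -/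
noncomputable def homsTrivialOn {A M : Type*} [Group A] [CommGroup M] (N : Subgroup A)
    [N.Normal] : {θ : A →* M // ∀ x ∈ N, θ x = 1} ≃ (A ⧸ N →* M) where
  toFun θ := QuotientGroup.lift N θ.1 fun x hx => MonoidHom.mem_ker.mpr (θ.2 x hx)
  invFun f := ⟨f.comp (QuotientGroup.mk' N), fun x hx => by
    show f (x : A ⧸ N) = 1
    rw [(QuotientGroup.eq_one_iff x).mpr hx, map_one]⟩
  left_inv θ := Subtype.ext (MonoidHom.ext fun x => rfl)
  right_inv f := QuotientGroup.monoidHom_ext N (MonoidHom.ext fun x => rfl)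

namespace Datum

variable {G : Type u} [Group G] [Fintype G] {D : Type v} [CommGroup D] [Fintype D] {K : Type w}
  [Fintype K] (Δ : Datum G D K)

local notation "q" => Nat.card K

theorem St_apply (g : G) : Δ.St g = Δ.R 1 g - 1 := rfl

theorem St_one : Δ.St 1 = (q : ℂ) := by
  rw [St_apply, Δ.R_one, add_sub_cancel_right]

theorem classInner_R_one_one : classInner (Δ.R 1) (fun _ => (1 : ℂ)) = 1 := by
  classical
  letI : Fintype Δ.B := Fintype.ofFinite _
  rw [R, Chars.classInner_indFun_left _ _ _ (fun _ _ => rfl)]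
  simp only [classInner, lam, MonoidHom.one_apply, Units.val_one, map_one, mul_one,
    Finset.sum_const, Finset.card_univ, nsmul_one, Fintype.card_eq_nat_card]
  exact inv_mul_cancel₀ Chars.natCard_ne_zero

theorem St_irr : IsIrrCharacter G Δ.St := by
  classical
  have hgen : IsGeneralizedCharacter G Δ.St :=
    Chars.isGeneralizedCharacter_sub
      (Chars.isGeneralizedCharacter_of_isCharacter (Δ.R_isCharacter 1))
      (Chars.isGeneralizedCharacter_of_isCharacter (χ := fun _ => (1 : ℂ))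
        (Chars.irr_isCharacter (Chars.trivialIrr G)))
  have h1 : classInner (fun _ : G => (1 : ℂ)) (fun _ => 1) = 1 :=
    Chars.classInner_irr_self (Chars.trivialIrr G)
  have h2 : classInner (fun _ : G => (1 : ℂ)) (Δ.R 1) = 1 := by
    rw [← Chars.conj_classInner, Δ.classInner_R_one_one, map_one]
  have hn : classInner Δ.St Δ.St = 1 := by
    show classInner (Δ.R 1 - fun _ => (1 : ℂ)) (Δ.R 1 - fun _ => (1 : ℂ)) = 1
    rw [Chars.classInner_sub_left, Chars.classInner_sub_right, Chars.classInner_sub_right,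
      Δ.classInner_R_R, Δ.classInner_R_one_one, h1, h2]
    simp
  refine (Chars.isGeneralizedCharacter_norm_one hgen hn).resolve_right fun h => ?_
  obtain ⟨k, hk, hk'⟩ := Chars.isIrrCharacter_exists_degree_pos h
  rw [Pi.neg_apply, Δ.St_one] at hk'
  have : ((q + k : ℕ) : ℂ) = 0 := by push_cast; rw [← hk']; ring
  have : q + k = 0 := by exact_mod_cast this
  omega

theorem R_irr {μ : D →* ℂˣ} (h : μ.comp Δ.τ ≠ μ) : IsIrrCharacter G (Δ.R μ) := by
  classical
  refine (Chars.isIrrCharacter_iff_classInner_eq_one (Δ.R_isCharacter μ)).mpr ?_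
  rw [Δ.classInner_R_R, if_pos rfl, if_neg (Ne.symm h), add_zero]

theorem classInner_R_self_fixed {μ : D →* ℂˣ} (h : μ.comp Δ.τ = μ) :
    classInner (Δ.R μ) (Δ.R μ) = 2 := by
  classical
  rw [Δ.classInner_R_R, if_pos rfl, if_pos h.symm]
  norm_num

theorem comp_τ_τ (μ : D →* ℂˣ) : (μ.comp Δ.τ).comp Δ.τ = μ :=
  MonoidHom.ext fun a => congrArg μ (Δ.τ_τ a)

theorem comp_σ_σ (θ : Δ.C →* ℂˣ) : (θ.comp Δ.σ).comp Δ.σ = θ :=
  MonoidHom.ext fun a => congrArg θ (Δ.σ_σ a)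

theorem R_comp_τ (μ : D →* ℂˣ) : Δ.R (μ.comp Δ.τ) = Δ.R μ := by
  classical
  rw [← sub_eq_zero]
  refine eq_zero_of_classInner_self ?_
  rw [Chars.classInner_sub_left, Chars.classInner_sub_right, Chars.classInner_sub_right,
    Δ.classInner_R_R, Δ.classInner_R_R, Δ.classInner_R_R, Δ.classInner_R_R, comp_τ_τ]
  by_cases h : μ.comp Δ.τ = μ
  · simp [h]
  · simp [h, Ne.symm h]

theorem R_eq_iff {μ ν : D →* ℂˣ} : Δ.R μ = Δ.R ν ↔ ν = μ ∨ ν = μ.comp Δ.τ := by
  classical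
  refine ⟨fun h => ?_, ?_⟩
  · have h1 := Δ.classInner_R_R ν μ
    rw [h, Δ.classInner_R_R, if_pos rfl] at h1
    by_contra hne
    rw [not_or] at hne
    rw [if_neg hne.1, if_neg hne.2, add_zero] at h1
    split_ifs at h1 <;> norm_num at h1
  · rintro (rfl | rfl)
    · rfl
    · rw [Δ.R_comp_τ]

theorem classInner_R_R_of_ne {μ ν : D →* ℂˣ} (h1 : μ ≠ ν) (h2 : μ ≠ ν.comp Δ.τ) :
    classInner (Δ.R μ) (Δ.R ν) = 0 := by
  classical
  rw [Δ.classInner_R_R, if_neg h1, if_neg h2, add_zero]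

section

variable {θ θ' : Δ.C →* ℂˣ} {μ μ' : D →* ℂˣ}

theorem pi_irr (hc : Δ.Compat θ μ) (h : θ.comp Δ.σ ≠ θ) : IsIrrCharacter G (Δ.pi θ μ) := by
  classical
  have hn : classInner (Δ.pi θ μ) (Δ.pi θ μ) = 1 := by
    rw [Δ.classInner_pi_pi hc hc, if_pos rfl, if_neg (Ne.symm h), add_zero]
  refine (Chars.isGeneralizedCharacter_norm_one (Δ.pi_generalized θ μ) hn).resolve_right
    fun h' => ?_
  obtain ⟨k, hk, hk'⟩ := Chars.isIrrCharacter_exists_degree_pos h'
  rw [Pi.neg_apply, Δ.pi_one hc] at hk'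
  have : ((q + k : ℕ) : ℂ) = 1 := by push_cast; rw [← hk']; ring
  have : q + k = 1 := by exact_mod_cast this
  have := Δ.two_le
  omega

theorem pi_comp_σ (hc : Δ.Compat θ μ) (hc' : Δ.Compat θ' μ') (h : θ' = θ ∨ θ' = θ.comp Δ.σ) :
    Δ.pi θ' μ' = Δ.pi θ μ := by
  classical
  rw [← sub_eq_zero]
  refine eq_zero_of_classInner_self ?_
  rw [Chars.classInner_sub_left, Chars.classInner_sub_right, Chars.classInner_sub_right,
    Δ.classInner_pi_pi hc hc, Δ.classInner_pi_pi hc hc', Δ.classInner_pi_pi hc' hc,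
    Δ.classInner_pi_pi hc' hc']
  rcases h with rfl | rfl
  · ring
  · rw [comp_σ_σ]
    by_cases h : θ.comp Δ.σ = θ
    · simp [h]
    · simp [h, Ne.symm h]

theorem pi_eq_iff (hc : Δ.Compat θ μ) (hc' : Δ.Compat θ' μ') :
    Δ.pi θ μ = Δ.pi θ' μ' ↔ θ' = θ ∨ θ' = θ.comp Δ.σ := by
  classical
  refine ⟨fun h => ?_, fun h => (Δ.pi_comp_σ hc hc' h).symm⟩
  have h1 := Δ.classInner_pi_pi hc' hc
  rw [h, Δ.classInner_pi_pi hc' hc', if_pos rfl] at h1
  by_contra hne
  rw [not_or] at hne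
  rw [if_neg hne.1, if_neg hne.2, add_zero] at h1
  split_ifs at h1 <;> norm_num at h1

end

/-- `θ` followed by a compatible character of `D`. -/
noncomputable def compatChoice (θ : Δ.C →* ℂˣ) : D →* ℂˣ := (Δ.exists_compat θ).choose

theorem compatChoice_spec (θ : Δ.C →* ℂˣ) : Δ.Compat θ (Δ.compatChoice θ) :=
  (Δ.exists_compat θ).choose_spec

/-- The discrete series character of `θ`. -/
noncomputable def piC (θ : Δ.C →* ℂˣ) : G → ℂ := Δ.pi θ (Δ.compatChoice θ)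

theorem piC_eq (θ : Δ.C →* ℂˣ) {μ : D →* ℂˣ} (h : Δ.Compat θ μ) : Δ.piC θ = Δ.pi θ μ :=
  Δ.pi_comp_σ h (Δ.compatChoice_spec θ) (Or.inl rfl)

theorem piC_one (θ : Δ.C →* ℂˣ) : Δ.piC θ 1 = (q : ℂ) - 1 := Δ.pi_one (Δ.compatChoice_spec θ)

theorem piC_torus (θ : Δ.C →* ℂˣ) (c : Δ.C) (hc : (c : G) ∉ Subgroup.center G) :
    Δ.piC θ c = -((θ c : ℂ) + (θ (Δ.σ c) : ℂ)) := Δ.pi_torus c hc

theorem piC_split (θ : Δ.C →* ℂˣ) {a : D} (x : K) (ha : Δ.τ a ≠ a) :
    Δ.piC θ (Δ.e (a, x)) = 0 := Δ.pi_split x ha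

theorem piC_irr {θ : Δ.C →* ℂˣ} (h : θ.comp Δ.σ ≠ θ) : IsIrrCharacter G (Δ.piC θ) :=
  Δ.pi_irr (Δ.compatChoice_spec θ) h

theorem classInner_piC_R (θ : Δ.C →* ℂˣ) (ν : D →* ℂˣ) : classInner (Δ.piC θ) (Δ.R ν) = 0 :=
  Δ.classInner_pi_R (Δ.compatChoice_spec θ) ν

/-- The irreducible principal series. -/
noncomputable def princSet : Finset (G → ℂ) := by
  classical
  exact letI : Fintype (D →* ℂˣ) := Fintype.ofFinite _
    (Finset.univ.filter fun μ : D →* ℂˣ => μ.comp Δ.τ ≠ μ).image Δ.R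

/-- The irreducible discrete series. -/
noncomputable def discSet : Finset (G → ℂ) := by
  classical
  exact letI : Fintype (Δ.C →* ℂˣ) := Fintype.ofFinite _
    (Finset.univ.filter fun θ : Δ.C →* ℂˣ => θ.comp Δ.σ ≠ θ).image Δ.piC

theorem mem_princSet {χ : G → ℂ} :
    χ ∈ Δ.princSet ↔ ∃ μ : D →* ℂˣ, μ.comp Δ.τ ≠ μ ∧ χ = Δ.R μ := by
  simp [princSet, eq_comm]

theorem mem_discSet {χ : G → ℂ} :
    χ ∈ Δ.discSet ↔ ∃ θ : Δ.C →* ℂˣ, θ.comp Δ.σ ≠ θ ∧ χ = Δ.piC θ := by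
  simp [discSet, eq_comm]

theorem princSet_irr {χ : G → ℂ} (h : χ ∈ Δ.princSet) : IsIrrCharacter G χ := by
  obtain ⟨μ, hμ, rfl⟩ := Δ.mem_princSet.mp h
  exact Δ.R_irr hμ

theorem discSet_irr {χ : G → ℂ} (h : χ ∈ Δ.discSet) : IsIrrCharacter G χ := by
  obtain ⟨θ, hθ, rfl⟩ := Δ.mem_discSet.mp h
  exact Δ.piC_irr hθ

theorem princSet_one {χ : G → ℂ} (h : χ ∈ Δ.princSet) : χ 1 = (q : ℂ) + 1 := by
  obtain ⟨μ, hμ, rfl⟩ := Δ.mem_princSet.mp h
  exact Δ.R_one μ

theorem discSet_one {χ : G → ℂ} (h : χ ∈ Δ.discSet) : χ 1 = (q : ℂ) - 1 := by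
  obtain ⟨θ, hθ, rfl⟩ := Δ.mem_discSet.mp h
  exact Δ.piC_one θ

theorem card_princSet :
    2 * Δ.princSet.card + Nat.card {μ : D →* ℂˣ // μ.comp Δ.τ = μ} = Nat.card D := by
  classical
  letI : Fintype (D →* ℂˣ) := Fintype.ofFinite _
  have hset : Δ.princSet = (Finset.univ.filter fun μ : D →* ℂˣ => μ.comp Δ.τ ≠ μ).image Δ.R := by
    ext χ
    simp [mem_princSet, eq_comm]
  rw [hset, two_mul_card_image _ (fun μ => μ.comp Δ.τ) _ (fun μ hμ => ?_) fun μ _ ν _ => Δ.R_eq_iff,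
    Nat.card_eq_fintype_card (α := {μ : D →* ℂˣ // _}), Fintype.card_subtype, add_comm,
    Finset.card_filter_add_card_filter_not, Finset.card_univ, Fintype.card_eq_nat_card,
    CommGroup.card_monoidHom_of_hasEnoughRootsOfUnity D ℂ]
  rw [Finset.mem_filter] at hμ ⊢
  refine ⟨⟨Finset.mem_univ _, ?_⟩, hμ.2⟩
  rw [comp_τ_τ]
  exact Ne.symm hμ.2

theorem card_discSet :
    2 * Δ.discSet.card + Nat.card {θ : Δ.C →* ℂˣ // θ.comp Δ.σ = θ} = Nat.card Δ.C := by
  classical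
  letI : CommGroup Δ.C := { (inferInstance : Group Δ.C) with mul_comm := Δ.C_comm }
  letI : Fintype (Δ.C →* ℂˣ) := Fintype.ofFinite _
  have hset : Δ.discSet = (Finset.univ.filter fun θ : Δ.C →* ℂˣ => θ.comp Δ.σ ≠ θ).image Δ.piC := by
    ext χ
    simp [mem_discSet, eq_comm]
  rw [hset, two_mul_card_image _ (fun θ => θ.comp Δ.σ) _ (fun θ hθ => ?_) fun θ _ θ' _ =>
      (show Δ.piC θ = Δ.piC θ' ↔ θ' = θ ∨ θ' = θ.comp Δ.σ from
        Δ.pi_eq_iff (Δ.compatChoice_spec θ) (Δ.compatChoice_spec θ')),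
    Nat.card_eq_fintype_card (α := {θ : Δ.C →* ℂˣ // _}), Fintype.card_subtype, add_comm,
    Finset.card_filter_add_card_filter_not, Finset.card_univ, Fintype.card_eq_nat_card,
    CommGroup.card_monoidHom_of_hasEnoughRootsOfUnity Δ.C ℂ]
  rw [Finset.mem_filter] at hθ ⊢
  refine ⟨⟨Finset.mem_univ _, ?_⟩, hθ.2⟩
  rw [comp_σ_σ]
  exact Ne.symm hθ.2

end Datum

end Cfsg.Agent.Lib.RankSeries
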