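import Cfsg.Agent.Lib.RankSeries.SLDatum
import Cfsg.Agent.Lib.RankSeries.Cyclic
import Cfsg.Agent.Lib.RankSeries.CentralMul
import Cfsg.Agent.Lib.SL2.Orders

/-!
# The series of `SL₂`: fixed parameters, special elements, linear sums
-/

set_option autoImplicit false

namespace Cfsg.Agent.Lib.RankSeries

open scoped ComplexConjugate
open Cfsg.Agent.Lib
open Cfsg.Agent.Lib.SL2

attribute [-instance] MonoidHom.instPow MonoidHom.mul instOneMonoidHom MonoidHom.instCommMonoid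
  MonoidHom.instInv MonoidHom.instDiv

variable {F : Type*} [Field F] [Fintype F] [DecidableEq F] {g₀ : SLtwo F} (hg : IsElliptic g₀)

local notation "Δ" => slDatum hg
local notation "qF" => Fintype.card F

/-- The upper triangular element with entries `a`, `x`, `a⁻¹`. -/
abbrev el (a : Fˣ) (x : F) : SLtwo F := (borelEquiv F (a, x) : SLtwo F)

theorem eq_el {g : SLtwo F} (h10 : g 1 0 = 0) :
    ∃ a : Fˣ, (a : F) = g 0 0 ∧ ((a⁻¹ : Fˣ) : F) = g 1 1 ∧ g = el a (g 0 1) := by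
  have hb : g ∈ borelSL F := mem_borelSL.mpr h10
  refine ⟨borelEntry F ⟨g, hb⟩, rfl, rfl, ?_⟩
  exact (congrArg Subtype.val ((borelEquiv F).apply_symm_apply ⟨g, hb⟩)).symm

theorem el_neg_one : el (-1 : Fˣ) (0 : F) = -1 := by
  apply ext_entries <;> simp [el, borelEquiv, ofEntries]

theorem el_one_zero : el (1 : Fˣ) (0 : F) = 1 := by
  apply ext_entries <;> simp [el, borelEquiv, ofEntries]

theorem neg_one_fixed : (slDatum hg).τ (-1 : Fˣ) = -1 := by
  show (-1 : Fˣ)⁻¹ = -1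
  simp

/-- The element `-1` inside the torus. -/
noncomputable def negC : (slDatum hg).C := (slDatum hg).zC ⟨-1, neg_one_fixed hg⟩

theorem negC_val : ((negC hg : (slDatum hg).C) : SLtwo F) = -1 := el_neg_one

theorem fixed_tau {μ : Fˣ →* ℂˣ} : μ.comp (slDatum hg).τ = μ ↔ μ.comp invMonoidHom = μ := Iff.rfl

theorem card_fixed_mu :
    Nat.card {μ : Fˣ →* ℂˣ // μ.comp (slDatum hg).τ = μ} = Nat.gcd (qF - 1) 2 := by
  rw [show {μ : Fˣ →* ℂˣ // μ.comp (slDatum hg).τ = μ} =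
    {μ : Fˣ →* ℂˣ // μ.comp invMonoidHom = μ} from rfl, card_fixed_inv, Nat.card_units,
    Nat.card_eq_fintype_card]

theorem card_C : Nat.card (slDatum hg).C = qF + 1 := card_centralizer_elliptic hg

theorem isCyclic_C : IsCyclic (slDatum hg).C := isCyclic_centralizer_elliptic hg

theorem card_fixed_theta :
    Nat.card {θ : (slDatum hg).C →* ℂˣ // θ.comp (slDatum hg).σ = θ} = Nat.gcd (qF + 1) 2 := by
  letI : CommGroup (slDatum hg).C :=
    { (inferInstance : Group (slDatum hg).C) with mul_comm := (slDatum hg).C_comm }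
  have : IsCyclic (slDatum hg).C := isCyclic_C hg
  have he : ∀ θ : (slDatum hg).C →* ℂˣ,
      θ.comp (slDatum hg).σ = θ ↔ θ.comp invMonoidHom = θ := fun θ => by
    rw [MonoidHom.ext_iff, MonoidHom.ext_iff]
    exact Iff.rfl
  rw [Nat.card_congr (Equiv.subtypeEquivRight he), card_fixed_inv, card_C]

theorem card_princ : 2 * (slDatum hg).princSet.card + Nat.gcd (qF - 1) 2 = qF - 1 := by
  rw [← card_fixed_mu hg, (slDatum hg).card_princSet, Nat.card_units, Nat.card_eq_fintype_card]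

theorem card_disc : 2 * (slDatum hg).discSet.card + Nat.gcd (qF + 1) 2 = qF + 1 := by
  rw [← card_fixed_theta hg, (slDatum hg).card_discSet, card_C]

theorem fixed_mu_apply (hodd : Odd qF) {μ : Fˣ →* ℂˣ} (h : μ.comp (slDatum hg).τ = μ) (h1 : μ ≠ 1)
    (x : Fˣ) : (x ^ ((qF - 1) / 2) = 1 → (μ x : ℂ) = 1) ∧
      (x ^ ((qF - 1) / 2) ≠ 1 → (μ x : ℂ) = -1) := by
  refine fixed_inv_apply ?_ h h1 x
  rw [Nat.card_units, Nat.card_eq_fintype_card]
  obtain ⟨k, hk⟩ := hodd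
  omega

theorem fixed_theta_apply (hodd : Odd qF) {θ : (slDatum hg).C →* ℂˣ}
    (h : θ.comp (slDatum hg).σ = θ) (h1 : θ ≠ 1) (c : (slDatum hg).C) :
    (c ^ ((qF + 1) / 2) = 1 → (θ c : ℂ) = 1) ∧ (c ^ ((qF + 1) / 2) ≠ 1 → (θ c : ℂ) = -1) := by
  letI : CommGroup (slDatum hg).C :=
    { (inferInstance : Group (slDatum hg).C) with mul_comm := (slDatum hg).C_comm }
  have : IsCyclic (slDatum hg).C := isCyclic_C hg
  have h' : θ.comp invMonoidHom = θ := by
    rw [MonoidHom.ext_iff] at h ⊢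
    exact h
  refine fixed_inv_apply ?_ h' h1 c
  rw [card_C hg]
  obtain ⟨k, hk⟩ := hodd
  omega

theorem exists_fixed_mu (hodd : Odd qF) :
    ∃ μ : Fˣ →* ℂˣ, μ.comp (slDatum hg).τ = μ ∧ μ ≠ 1 := by
  have h : Nat.card {μ : Fˣ →* ℂˣ // μ.comp (slDatum hg).τ = μ} = 2 := by
    rw [card_fixed_mu]
    obtain ⟨k, hk⟩ := hodd
    exact Nat.gcd_eq_right ⟨k, by omega⟩
  have : Nontrivial {μ : Fˣ →* ℂˣ // μ.comp (slDatum hg).τ = μ} :=
    Finite.one_lt_card_iff_nontrivial.mp (by omega)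
  obtain ⟨μ, hμ⟩ := exists_ne (⟨1, by ext; simp⟩ : {μ : Fˣ →* ℂˣ // μ.comp (slDatum hg).τ = μ})
  exact ⟨μ.1, μ.2, fun h => hμ (Subtype.ext h)⟩

theorem exists_fixed_theta (hodd : Odd qF) :
    ∃ θ : (slDatum hg).C →* ℂˣ, θ.comp (slDatum hg).σ = θ ∧ θ ≠ 1 := by
  have h : Nat.card {θ : (slDatum hg).C →* ℂˣ // θ.comp (slDatum hg).σ = θ} = 2 := by
    rw [card_fixed_theta]
    obtain ⟨k, hk⟩ := hodd
    exact Nat.gcd_eq_right ⟨k + 1, by omega⟩
  have : Nontrivial {θ : (slDatum hg).C →* ℂˣ // θ.comp (slDatum hg).σ = θ} :=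
    Finite.one_lt_card_iff_nontrivial.mp (by omega)
  obtain ⟨θ, hθ⟩ := exists_ne
    (⟨1, MonoidHom.ext fun _ => by simp⟩ : {θ : (slDatum hg).C →* ℂˣ // θ.comp (slDatum hg).σ = θ})
  exact ⟨θ.1, θ.2, fun h => hθ (Subtype.ext h)⟩

/-- The two characters of order two take opposite values at `-1`. -/
theorem fixed_apply_neg_one (hodd : Odd qF) {μ : Fˣ →* ℂˣ} (h : μ.comp (slDatum hg).τ = μ)
    (h1 : μ ≠ 1) {θ : (slDatum hg).C →* ℂˣ} (h' : θ.comp (slDatum hg).σ = θ) (h1' : θ ≠ 1) :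
    (μ (-1) : ℂ) = (-1 : ℂ) ^ ((qF - 1) / 2) ∧ (θ (negC hg) : ℂ) = -(μ (-1) : ℂ) := by
  have h2 : (2 : F) ≠ 0 := two_ne_zero_iff_odd.2 hodd
  obtain ⟨k, hk⟩ := hodd
  have hk' : (qF - 1) / 2 = k := by omega
  have hk1 : (qF + 1) / 2 = k + 1 := by omega
  have hodd' : Odd qF := ⟨k, hk⟩
  have hu : (-1 : Fˣ) ≠ 1 := fun he => h2 (by
    have := congrArg (fun z : Fˣ => (z : F)) he
    simp only [Units.val_neg, Units.val_one] at this
    linear_combination -this)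
  have hA : (μ (-1) : ℂ) = (-1 : ℂ) ^ k := by
    obtain ⟨p1, p2⟩ := fixed_mu_apply hg hodd' h h1 (-1)
    rw [hk'] at p1 p2
    rcases Nat.even_or_odd k with he | he
    · rw [he.neg_one_pow, p1 he.neg_one_pow]
    · rw [he.neg_one_pow, p2 (by rw [he.neg_one_pow]; exact hu)]
  have hcc : negC hg * negC hg = 1 := Subtype.ext (by
    rw [Subgroup.coe_mul, negC_val, OneMemClass.coe_one]
    simp)
  have hcne : negC hg ≠ 1 := fun he => neg_one_ne_one h2 (by
    have := congrArg (fun c : (slDatum hg).C => (c : SLtwo F)) he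
    rwa [negC_val] at this)
  have hcpow : ∀ j, (Even j → negC hg ^ j = 1) ∧ (Odd j → negC hg ^ j = negC hg) := fun j =>
    ⟨fun ⟨i, hi⟩ => by rw [hi, ← two_mul, pow_mul, pow_two, hcc, one_pow],
     fun ⟨i, hi⟩ => by rw [hi, pow_succ, pow_mul, pow_two, hcc, one_pow, one_mul]⟩
  refine ⟨by rw [hA, hk'], ?_⟩
  obtain ⟨p1, p2⟩ := fixed_theta_apply hg hodd' h' h1' (negC hg)
  rw [hk1] at p1 p2
  rw [hA]
  rcases Nat.even_or_odd k with he | he
  · rw [he.neg_one_pow, p2 (by rw [(hcpow _).2 he.add_one]; exact hcne)]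
  · rw [he.neg_one_pow, p1 ((hcpow _).1 he.add_one), neg_neg]

theorem St_split (a : Fˣ) (x : F) (ha : a⁻¹ ≠ a) : (slDatum hg).St (el a x) = 1 := by
  rw [Datum.St, show el a x = (((slDatum hg).e (a, x) : (slDatum hg).B) : SLtwo F) from rfl,
    (slDatum hg).R_split 1 x ha]
  norm_num

theorem St_parab (a : Fˣ) {x : F} (ha : a⁻¹ = a) (hx : x ≠ 0) :
    (slDatum hg).St (el a x) = 0 := by
  rw [Datum.St, show el a x = (((slDatum hg).e (a, x) : (slDatum hg).B) : SLtwo F) from rfl,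
    (slDatum hg).R_parab 1 ha hx]
  norm_num

theorem St_torus (c : (slDatum hg).C) (hc : (c : SLtwo F) ∉ Subgroup.center (SLtwo F)) :
    (slDatum hg).St c = -1 := by
  rw [Datum.St, (slDatum hg).R_torus 1 c hc, zero_sub]

theorem el_split_isSplit {a : Fˣ} (x : F) (ha : a⁻¹ ≠ a) : IsSplit (el a x) := by
  refine ⟨(a : F), ?_, fun h => ha ?_⟩
  · rw [tr, borelEquiv_00, borelEquiv_11]
    have := a.mul_inv
    linear_combination -this
  · rw [inv_units_eq_iff]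
    exact sq_eq_one_iff.mp h

theorem el_parab_tr {a : Fˣ} (x : F) (ha : a⁻¹ = a) :
    tr (el a x) = 2 ∨ tr (el a x) = -2 := by
  rw [tr, borelEquiv_00, borelEquiv_11, ha]
  rcases (inv_units_eq_iff a).mp ha with h | h <;> rw [h]
  · left; norm_num
  · right; norm_num

theorem el_notMem_center {a : Fˣ} {x : F} (ha : a⁻¹ = a) (hx : x ≠ 0) :
    el a x ∉ Subgroup.center (SLtwo F) := fun h =>
  hx (by rw [← borelEquiv_01 a x]; exact ((mem_center_iff_entries _).mp h).1)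

theorem el_one_conj {x y : F} (hx : x ≠ 0) (hy : y ≠ 0) :
    IsConj (el (1 : Fˣ) x) (el 1 y) ↔ IsSquare (x * y) := by
  have hv : ∀ z : F, cycForm ((el (1 : Fˣ) z : SLtwo F) : Matrix (Fin 2) (Fin 2) F) (0, 1) = -z :=
    fun z => by simp [cycForm, el, borelEquiv, ofEntries]
  have htr : ∀ z : F, tr (el (1 : Fˣ) z) = 2 := fun z => by
    rw [tr, borelEquiv_00, borelEquiv_11, inv_one, Units.val_one]; norm_num
  rw [isConj_parabolic_iff (Or.inl (htr x)) ((htr x).trans (htr y).symm) (v := (0, 1)) (w := (0, 1))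
    (by rw [hv]; exact neg_ne_zero.mpr hx) (by rw [hv]; exact neg_ne_zero.mpr hy), hv, hv,
    neg_mul_neg]

theorem el_one_inv (x : F) : (el (1 : Fˣ) x)⁻¹ = el 1 (-x) := by
  apply ext_entries
  · rw [inv_00, borelEquiv_11, borelEquiv_00]; simp
  · rw [inv_01, borelEquiv_01, borelEquiv_01]
  · rw [inv_10, borelEquiv_10, borelEquiv_10, neg_zero]
  · rw [inv_11, borelEquiv_00, borelEquiv_11]; simp

/-! ### Sums over the series -/

/-- `(μ x + μ x⁻¹) · conj (μ y + μ y⁻¹)`, summed over all characters. -/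
theorem sum_pair_all {A : Type*} [CommGroup A] [Finite A] [Fintype (A →* ℂˣ)] (x : A)
    (hx : x⁻¹ ≠ x) :
    ∑ μ : A →* ℂˣ, ((μ x : ℂ) + (μ x⁻¹ : ℂ)) * conj ((μ x : ℂ) + (μ x⁻¹ : ℂ)) =
      2 * (Nat.card A : ℂ) := by
  classical
  have hconj : ∀ (μ : A →* ℂˣ) (z : A), conj (μ z : ℂ) = (μ z⁻¹ : ℂ) := fun μ z =>
    (Chars.irr_inv (Chars.linIrr μ) z).symm
  have hne : x * x ≠ 1 := fun h => hx (inv_eq_of_mul_eq_one_right h)
  rw [Finset.sum_congr rfl (g := fun μ : A →* ℂˣ => (μ (1 : A) : ℂ) + (μ (1 : A) : ℂ) +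
    ((μ (x * x) : ℂ) + (μ (x * x)⁻¹ : ℂ))) fun μ _ => ?_]
  · rw [Finset.sum_add_distrib, Finset.sum_add_distrib, Finset.sum_add_distrib, sum_homs_apply,
      sum_homs_apply, sum_homs_apply, if_pos rfl, if_neg hne,
      if_neg (fun h => hne (inv_eq_one.mp h))]
    ring
  · rw [map_add, hconj, hconj, inv_inv, map_one, Units.val_one, map_mul μ x x, mul_inv_rev,
      map_mul μ x⁻¹ x⁻¹, Units.val_mul, Units.val_mul]
    have h1 : (μ x : ℂ) * (μ x⁻¹ : ℂ) = 1 := by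
      rw [← Units.val_mul, ← map_mul, mul_inv_cancel, map_one, Units.val_one]
    linear_combination 2 * h1

end Cfsg.Agent.Lib.RankSeries
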