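import Cfsg.Agent.Lib.RankSeries.Irred
import Cfsg.Agent.Lib.SL2.Partition
import Cfsg.Agent.Lib.SL2.Classes

/-!
# The rank one datum of `SL₂`
-/

set_option autoImplicit false

namespace Cfsg.Agent.Lib.RankSeries

open Cfsg.Agent.Lib
open Cfsg.Agent.Lib.SL2

variable {F : Type*} [Field F]

/-- The upper triangular subgroup of `SL₂`. -/
abbrev borelSL (F : Type*) [Field F] : Subgroup (SLtwo F) :=
  (upperTriangularGL 2 F).comap Matrix.SpecialLinearGroup.toGL

theorem mem_borelSL {g : SLtwo F} : g ∈ borelSL F ↔ g 1 0 = 0 := by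
  show (Matrix.BlockTriangular _ id) ↔ _
  refine ⟨fun h => h (show id (0 : Fin 2) < id 1 by decide), fun h i j hij => ?_⟩
  fin_cases i <;> fin_cases j <;> simp_all

theorem borel_diag {g : SLtwo F} (h : g ∈ borelSL F) : g 0 0 * g 1 1 = 1 := by
  have hd := det_entries g
  rw [mem_borelSL.mp h] at hd
  linear_combination hd

/-- The diagonal entry of an upper triangular element. -/
def borelEntry (F : Type*) [Field F] : borelSL F →* Fˣ where
  toFun b := ⟨(b : SLtwo F) 0 0, (b : SLtwo F) 1 1, borel_diag b.2, by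
    rw [mul_comm]; exact borel_diag b.2⟩
  map_one' := Units.ext (by simp)
  map_mul' a b := Units.ext (by
    show ((a : SLtwo F) * b) 0 0 = (a : SLtwo F) 0 0 * (b : SLtwo F) 0 0
    rw [mul_00, mem_borelSL.mp b.2, mul_zero, add_zero])

/-- Coordinates on the upper triangular subgroup. -/
def borelEquiv (F : Type*) [Field F] : Fˣ × F ≃ borelSL F where
  toFun p := ⟨ofEntries (p.1 : F) p.2 0 ((p.1⁻¹ : Fˣ) : F) (by simp),
    mem_borelSL.mpr (by simp [ofEntries])⟩
  invFun b := (borelEntry F b, (b : SLtwo F) 0 1)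
  left_inv p := Prod.ext (Units.ext (by simp [borelEntry, ofEntries])) (by simp [ofEntries])
  right_inv b := Subtype.ext (by
    have h := mem_borelSL.mp b.2
    apply ext_entries <;> simp [borelEntry, ofEntries, h])

theorem borelEquiv_00 (a : Fˣ) (x : F) : (borelEquiv F (a, x) : SLtwo F) 0 0 = a := by
  simp [borelEquiv, ofEntries]

theorem borelEquiv_01 (a : Fˣ) (x : F) : (borelEquiv F (a, x) : SLtwo F) 0 1 = x := by
  simp [borelEquiv, ofEntries]

theorem borelEquiv_11 (a : Fˣ) (x : F) :
    (borelEquiv F (a, x) : SLtwo F) 1 1 = ((a⁻¹ : Fˣ) : F) := by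
  simp [borelEquiv, ofEntries]

theorem borelEquiv_10 (a : Fˣ) (x : F) : (borelEquiv F (a, x) : SLtwo F) 1 0 = 0 :=
  mem_borelSL.mp (borelEquiv F (a, x)).2

theorem conj_10 (y b : SLtwo F) (hb : b 1 0 = 0) :
    (y⁻¹ * b * y) 1 0 = y 1 0 * ((b 1 1 - b 0 0) * y 0 0 - b 0 1 * y 1 0) := by
  rw [mul_10, mul_10, mul_11, inv_10, inv_11, hb]
  ring

theorem inv_units_eq_iff (a : Fˣ) : a⁻¹ = a ↔ (a : F) = 1 ∨ (a : F) = -1 := by
  rw [inv_eq_iff_mul_eq_one, ← Units.val_inj, Units.val_mul, Units.val_one,
    mul_self_eq_one_iff]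

variable [Fintype F]

theorem elliptic_of_mem_centralizer {g c : SLtwo F} (hg : IsElliptic g)
    (hc : c ∈ Subgroup.centralizer ({g} : Set (SLtwo F))) (hn : c ∉ Subgroup.center (SLtwo F)) :
    IsElliptic c := by
  have hcard := centralizer_eq_of_mem hg.notMem_center hc hn
  have h1 := card_centralizer_elliptic hg
  rw [← hcard] at h1
  have h2 : 2 ≤ Fintype.card F := Fintype.one_lt_card
  rcases elliptic_or_split_or_parabolic c with h | h | h
  · exact h
  · rw [card_centralizer_split h] at h1
    omega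
  · rw [card_centralizer_parabolic hn h] at h1
    have hd : Fintype.card F ∣ Fintype.card F + 1 := ⟨_, by rw [mul_comm]; exact h1.symm⟩
    have := Nat.le_of_dvd one_pos ((Nat.dvd_add_right dvd_rfl).mp hd)
    omega

theorem inv_ne_self_of_elliptic {c : SLtwo F} (hc : IsElliptic c) : c⁻¹ ≠ c := fun h => by
  have h01 := congrArg (fun x : SLtwo F => x 0 1) h
  have h10 := congrArg (fun x : SLtwo F => x 1 0) h
  have h00 := congrArg (fun x : SLtwo F => x 0 0) h
  simp only [inv_00, inv_01, inv_10] at h01 h10 h00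
  by_cases h2 : (2 : F) = 0
  · have ht : tr c = 2 := by
      rw [tr, h00]
      linear_combination (c 0 0 - 1) * h2
    exact hc.tr_ne.1 ht
  · refine hc.notMem_center ((mem_center_iff_entries c).mpr ⟨?_, ?_, h00.symm⟩)
    · exact (mul_eq_zero.mp (show (2 : F) * c 0 1 = 0 by linear_combination -h01)).resolve_left h2
    · exact (mul_eq_zero.mp (show (2 : F) * c 1 0 = 0 by linear_combination -h10)).resolve_left h2

/-- The rank one datum of `SL₂` attached to an elliptic element. -/
def slDatum {g : SLtwo F} (hg : IsElliptic g) : Datum (SLtwo F) Fˣ F where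
  B := borelSL F
  C := Subgroup.centralizer ({g} : Set (SLtwo F))
  e := borelEquiv F
  d := borelEntry F
  d_e a x := Units.ext (borelEquiv_00 a x)
  o := 0
  e_one := Subtype.ext (by apply ext_entries <;> simp [borelEquiv, ofEntries])
  τ := invMonoidHom
  τ_τ a := inv_inv a
  σ :=
    { toFun := fun c => c⁻¹
      map_one' := inv_one
      map_mul' := fun a b => by
        rw [mul_inv_rev]
        exact Subtype.ext (centralizer_comm hg.notMem_center (b⁻¹).2 (a⁻¹).2) }
  σ_σ c := inv_inv c
  C_comm a b := Subtype.ext (centralizer_comm hg.notMem_center a.2 b.2)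
  two_le := by rw [Nat.card_eq_fintype_card]; exact Fintype.one_lt_card
  index_B := by
    have h := (borelSL F).card_mul_index
    rw [← Nat.card_congr (borelEquiv F), Nat.card_prod, card_SLtwo, Nat.card_units,
      Nat.card_eq_fintype_card] at h
    have h2 : 2 ≤ Fintype.card F := Fintype.one_lt_card
    rw [Nat.card_eq_fintype_card]
    refine Nat.eq_of_mul_eq_mul_left (show 0 < (Fintype.card F - 1) * Fintype.card F from
      Nat.mul_pos (by omega) (by omega)) (h.trans ?_)
    rw [show Fintype.card F ^ 2 - 1 = (Fintype.card F + 1) * (Fintype.card F - 1) by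
      simpa using Nat.sq_sub_sq (Fintype.card F) 1]
    ring
  index_C := by
    have h := (Subgroup.centralizer ({g} : Set (SLtwo F))).card_mul_index
    rw [card_centralizer_elliptic hg, card_SLtwo] at h
    have h2 : 2 ≤ Fintype.card F := Fintype.one_lt_card
    rw [Nat.card_eq_fintype_card]
    refine Nat.eq_of_mul_eq_mul_left (show 0 < Fintype.card F + 1 by omega) (h.trans ?_)
    rw [show Fintype.card F ^ 2 - 1 = (Fintype.card F + 1) * (Fintype.card F - 1) by
      simpa using Nat.sq_sub_sq (Fintype.card F) 1]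
    ring
  central a ha := (mem_center_iff_entries _).mpr ⟨borelEquiv_01 a 0, borelEquiv_10 a 0, by
    rw [borelEquiv_00, borelEquiv_11]
    exact congrArg Units.val (show a = a⁻¹ from ha.symm)⟩
  central_mem_C a ha := by
    refine mem_centralizer_singleton_iff.2 ?_
    have hz : (borelEquiv F (a, 0) : SLtwo F) ∈ Subgroup.center (SLtwo F) :=
      (mem_center_iff_entries _).mpr ⟨borelEquiv_01 a 0, borelEquiv_10 a 0, by
        rw [borelEquiv_00, borelEquiv_11]
        exact congrArg Units.val (show a = a⁻¹ from ha.symm)⟩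
    exact congrArg Subtype.val (Subgroup.mem_center_iff.mp hz g).symm
  parab a x ha hx y hy := by
    have h := mem_borelSL.mp hy
    rw [conj_10 _ _ (borelEquiv_10 a x), borelEquiv_00, borelEquiv_01, borelEquiv_11,
      show a⁻¹ = a from ha, sub_self, zero_mul, zero_sub, mul_neg, neg_eq_zero, mul_eq_zero,
      mul_eq_zero] at h
    exact mem_borelSL.mpr (h.elim id fun h => h.resolve_left hx)
  split a x ha := by
    have hne : ((a⁻¹ : Fˣ) : F) - (a : F) ≠ 0 :=
      sub_ne_zero.mpr fun h => ha (Units.ext h : a⁻¹ = a)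
    set r := x / (((a⁻¹ : Fˣ) : F) - (a : F)) with hr
    have hrx : r * (((a⁻¹ : Fˣ) : F) - (a : F)) = x := div_mul_cancel₀ _ hne
    let y : SLtwo F := ofEntries r (-1) 1 0 (by ring)
    have y00 : y 0 0 = r := by simp [y, ofEntries]
    have y01 : y 0 1 = -1 := by simp [y, ofEntries]
    have y10 : y 1 0 = 1 := by simp [y, ofEntries]
    have y11 : y 1 1 = 0 := by simp [y, ofEntries]
    refine ⟨y, fun h => one_ne_zero (y10.symm.trans (mem_borelSL.mp h)), ⟨mem_borelSL.mpr ?_, ?_⟩,
      fun z hz => ?_⟩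
    · rw [conj_10 _ _ (borelEquiv_10 a x), y00, y10, borelEquiv_00, borelEquiv_01, borelEquiv_11]
      linear_combination hrx
    · refine Units.ext ?_
      show (y⁻¹ * (borelEquiv F (a, x) : SLtwo F) * y) 0 0 = ((a⁻¹ : Fˣ) : F)
      rw [mul_00, mul_00, mul_01, inv_00, inv_01, borelEquiv_00, borelEquiv_01, borelEquiv_11,
        borelEquiv_10, y00, y01, y10, y11]
      ring
    · have h := mem_borelSL.mp hz
      rw [conj_10 _ _ (borelEquiv_10 a x), borelEquiv_00, borelEquiv_01, borelEquiv_11,
        mul_eq_zero] at h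
      refine h.imp mem_borelSL.mpr fun h => mem_borelSL.mpr ?_
      rw [mul_10, inv_10, inv_11, y10, y00]
      refine (mul_eq_zero.mp (show (((a⁻¹ : Fˣ) : F) - (a : F)) *
        (-1 * z 0 0 + r * z 1 0) = 0 by linear_combination z 1 0 * hrx - h)).resolve_left hne
  center_C c hc := by
    obtain ⟨h01, h10, h00⟩ := (mem_center_iff_entries _).mp hc
    have hb : (c : SLtwo F) ∈ borelSL F := mem_borelSL.mpr h10
    refine ⟨borelEntry F ⟨_, hb⟩, ?_, ?_⟩
    · refine Units.ext ?_
      show (c : SLtwo F) 1 1 = (c : SLtwo F) 0 0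
      exact h00.symm
    · have := (borelEquiv F).apply_symm_apply ⟨_, hb⟩
      rw [show (borelEquiv F).symm ⟨_, hb⟩ = (borelEntry F ⟨_, hb⟩, 0) from
        Prod.ext rfl h01] at this
      rw [this]
  torus_not_B c hc y h := by
    have he := elliptic_of_mem_centralizer hg c.2 hc
    have h1 := borel_diag h
    have ht : tr (y⁻¹ * (c : SLtwo F) * y) = tr (c : SLtwo F) := by
      simpa using tr_conj (c : SLtwo F) y⁻¹
    refine he ((y⁻¹ * (c : SLtwo F) * y) 0 0) ?_
    rw [← ht, tr]
    linear_combination -h1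
  torus_centralizer c hc y hy := by
    rw [← centralizer_eq_of_mem hg.notMem_center c.2 hc]
    exact Subgroup.mem_centralizer_singleton_iff.mpr hy
  torus_conj c hc := by
    obtain ⟨k, hk⟩ := isConj_iff.1 (isConj_of_tr_eq (Or.inl (elliptic_of_mem_centralizer hg c.2 hc))
      (tr_inv (c : SLtwo F)).symm)
    exact ⟨k⁻¹, by rw [inv_inv]; exact hk⟩
  torus_fusion c hc y hy := by
    refine eq_or_eq_inv_of_tr (elliptic_of_mem_centralizer hg c.2 hc).tr_ne ?_
      (by simpa using tr_conj (c : SLtwo F) y⁻¹)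
    rw [centralizer_eq_of_mem hg.notMem_center c.2 hc]
    exact hy
  σ_ne c hc h :=
    inv_ne_self_of_elliptic (elliptic_of_mem_centralizer hg c.2 hc) (congrArg Subtype.val h)
  σ_center c hc := by
    refine Subtype.ext ?_
    show (c : SLtwo F)⁻¹ = c
    rcases (mem_center_iff_eq _).mp hc with h | h <;> rw [h]
    · exact inv_one
    · exact inv_eq_of_mul_eq_one_right (by apply ext_entries <;> simp)

end Cfsg.Agent.Lib.RankSeries
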