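import Cfsg.Agent.Lib.RankSeries.SLBasic

/-!
# The irreducible characters of `SL₂(q)`, `q` even
-/

set_option autoImplicit false

namespace Cfsg.Agent.Lib.RankSeries

open Cfsg.Agent.Lib
open Cfsg.Agent.Lib.SL2

universe u

variable {F : Type u} [Field F] [Fintype F] [DecidableEq F] {g₀ : SLtwo F} (hg : IsElliptic g₀)

theorem even_card (h2 : (2 : F) = 0) : Even (Fintype.card F) :=
  Nat.not_odd_iff_even.mp fun h => two_ne_zero_iff_odd.2 h h2

theorem card_series_even (h2 : (2 : F) = 0) :
    2 * (slDatum hg).princSet.card + 2 = Fintype.card F ∧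
      2 * (slDatum hg).discSet.card = Fintype.card F := by
  obtain ⟨k, hk⟩ := even_card h2
  have h0 : 1 < Fintype.card F := Fintype.one_lt_card
  have e1 : Nat.gcd (Fintype.card F - 1) 2 = 1 := by
    rw [hk, show k + k - 1 = 2 * (k - 1) + 1 by omega, Nat.gcd_comm, Nat.gcd_rec]
    norm_num [Nat.add_mod]
  have e2 : Nat.gcd (Fintype.card F + 1) 2 = 1 := by
    rw [hk, show k + k + 1 = 2 * k + 1 by omega, Nat.gcd_comm, Nat.gcd_rec]
    norm_num [Nat.add_mod]
  have h1 := card_princ hg
  have h3 := card_disc hg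
  rw [e1] at h1
  rw [e2] at h3
  omega

theorem even_complete (h2 : (2 : F) = 0) (χ : SLtwo F → ℂ) (hχ : IsIrrCharacter (SLtwo F) χ) :
    χ = (fun _ => 1) ∨ χ = (slDatum hg).St ∨ χ ∈ (slDatum hg).princSet ∨
      χ ∈ (slDatum hg).discSet := by
  classical
  set Δ := slDatum hg with hΔ
  have hK : Nat.card F = Fintype.card F := Nat.card_eq_fintype_card
  have h0 : 1 < Fintype.card F := Fintype.one_lt_card
  have hSt1 : (fun _ => (1 : ℂ)) ≠ Δ.St := fun h => by
    have h' := congrFun h 1
    rw [Δ.St_one, hK] at h'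
    have : Fintype.card F = 1 := by exact_mod_cast h'.symm
    omega
  have hd1 : Disjoint ({fun _ => 1, Δ.St} : Finset (SLtwo F → ℂ)) Δ.princSet := by
    rw [Finset.disjoint_left]
    intro φ h1 h3
    have h4 := Δ.princSet_one h3
    rw [hK] at h4
    simp only [Finset.mem_insert, Finset.mem_singleton] at h1
    rcases h1 with rfl | rfl
    · have : ((Fintype.card F + 1 : ℕ) : ℂ) = (1 : ℕ) := by push_cast; exact h4.symm
      have := Nat.cast_injective (R := ℂ) this
      omega
    · rw [Δ.St_one, hK] at h4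
      have : ((Fintype.card F + 1 : ℕ) : ℂ) = (Fintype.card F : ℕ) := by push_cast; exact h4.symm
      have := Nat.cast_injective (R := ℂ) this
      omega
  have hd2 : Disjoint ({fun _ => 1, Δ.St} ∪ Δ.princSet) Δ.discSet := by
    rw [Finset.disjoint_left]
    intro φ h1 h3
    obtain ⟨θ, hθ, rfl⟩ := Δ.mem_discSet.mp h3
    have hR := Δ.classInner_piC_R θ 1
    have hirr := Δ.piC_irr hθ
    simp only [Finset.mem_union, Finset.mem_insert, Finset.mem_singleton] at h1
    have hsplit : Δ.R 1 = (fun _ => (1 : ℂ)) + Δ.St := by funext g; simp [Datum.St]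
    have hone : classInner (fun _ : SLtwo F => (1 : ℂ)) (fun _ => 1) = 1 :=
      Chars.classInner_irr_self (Chars.trivialIrr _)
    have hStSt : classInner Δ.St Δ.St = 1 := Chars.classInner_irr_self ⟨_, Δ.St_irr⟩
    have hcross : classInner (fun _ : SLtwo F => (1 : ℂ)) Δ.St = 0 :=
      Chars.classInner_irr_of_ne (χ := Chars.trivialIrr _) (ψ := ⟨_, Δ.St_irr⟩)
        fun h => hSt1 (congrArg Subtype.val h)
    rcases h1 with (e | e) | h1
    · rw [e, hsplit, Chars.classInner_add_right, hone, hcross, add_zero] at hR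
      exact one_ne_zero hR
    · rw [e, hsplit, Chars.classInner_add_right, hStSt, ← Chars.conj_classInner, hcross,
        map_zero, zero_add] at hR
      exact one_ne_zero hR
    · have h4 := Δ.princSet_one h1
      rw [Δ.piC_one, hK] at h4
      have : ((2 : ℕ) : ℂ) = (0 : ℕ) := by push_cast; linear_combination -h4
      have := Nat.cast_injective (R := ℂ) this
      omega
  have hmem := mem_of_card_le (({fun _ => 1, Δ.St} ∪ Δ.princSet) ∪ Δ.discSet) (fun φ hφ => by
    simp only [Finset.mem_union, Finset.mem_insert, Finset.mem_singleton] at hφ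
    rcases hφ with ((rfl | rfl) | h) | h
    exacts [Chars.isIrrCharacter_one, Δ.St_irr, Δ.princSet_irr h, Δ.discSet_irr h]) (by
      rw [card_conjClasses_even h2, Finset.card_union_of_disjoint hd2,
        Finset.card_union_of_disjoint hd1, Finset.card_pair hSt1]
      have := card_series_even hg h2
      rw [← hΔ] at this
      omega) hχ
  simp only [Finset.mem_union, Finset.mem_insert, Finset.mem_singleton] at hmem
  tauto

end Cfsg.Agent.Lib.RankSeries
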