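import Cfsg.Agent.Lib.RankSeries.SLOddUnip
import Cfsg.Agent.Lib.RankSeries.SLEven

/-!
# The irreducible characters of `SL₂` sorted by degree
-/

set_option autoImplicit false

namespace Cfsg.Agent.Lib.RankSeries

open scoped ComplexConjugate
open Cfsg.Agent.Lib
open Cfsg.Agent.Lib.SL2

attribute [-instance] MonoidHom.instPow MonoidHom.mul instOneMonoidHom MonoidHom.instCommMonoid
  MonoidHom.instInv MonoidHom.instDiv

universe u

variable {F : Type u} [Field F] [Fintype F] [DecidableEq F] {g₀ : SLtwo F} {hg : IsElliptic g₀}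

theorem princ_degree {χ : SLtwo F → ℂ} (h : χ ∈ (slDatum hg).princSet) :
    χ 1 = ((Fintype.card F + 1 : ℕ) : ℂ) := by
  rw [(slDatum hg).princSet_one h, Nat.card_eq_fintype_card]
  push_cast
  rfl

theorem disc_degree {χ : SLtwo F → ℂ} (h : χ ∈ (slDatum hg).discSet) :
    χ 1 = ((Fintype.card F - 1 : ℕ) : ℂ) := by
  rw [(slDatum hg).discSet_one h, Nat.card_eq_fintype_card, Nat.cast_sub Fintype.card_pos,
    Nat.cast_one]

theorem St_degree : (slDatum hg).St 1 = (Fintype.card F : ℂ) := by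
  rw [(slDatum hg).St_one, Nat.card_eq_fintype_card]

variable (hg) in
/-- Even `q`: the irreducible characters of a given degree. -/
theorem even_of_degree (h2 : (2 : F) = 0) {χ : SLtwo F → ℂ} (hχ : IsIrrCharacter (SLtwo F) χ)
    {m : ℕ} (hm : χ 1 = (m : ℂ)) :
    (χ = (fun _ => 1) ∧ m = 1) ∨ (χ = (slDatum hg).St ∧ m = Fintype.card F) ∨
      (χ ∈ (slDatum hg).princSet ∧ m = Fintype.card F + 1) ∨
      (χ ∈ (slDatum hg).discSet ∧ m = Fintype.card F - 1) := by
  rcases even_complete hg h2 χ hχ with rfl | rfl | h | h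
  · exact Or.inl ⟨rfl, Nat.cast_injective (R := ℂ) (hm.symm.trans Nat.cast_one.symm)⟩
  · refine Or.inr (Or.inl ⟨rfl, ?_⟩)
    rw [St_degree] at hm
    exact (Nat.cast_injective hm).symm
  · refine Or.inr (Or.inr (Or.inl ⟨h, ?_⟩))
    rw [princ_degree h] at hm
    exact (Nat.cast_injective hm).symm
  · refine Or.inr (Or.inr (Or.inr ⟨h, ?_⟩))
    rw [disc_degree h] at hm
    exact (Nat.cast_injective hm).symm

namespace OddTable

variable {μ₀ : Fˣ →* ℂˣ} {θ₀ : (slDatum hg).C →* ℂˣ} {a a' b b' : SLtwo F → ℂ}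
  (T : OddTable hg μ₀ θ₀ a a' b b')

include T

/-- Odd `q`: the irreducible characters of a given degree. -/
theorem of_degree {χ : SLtwo F → ℂ} (hχ : IsIrrCharacter (SLtwo F) χ) {m : ℕ}
    (hm : χ 1 = (m : ℂ)) :
    (χ = (fun _ => 1) ∧ m = 1) ∨ (χ = (slDatum hg).St ∧ m = Fintype.card F) ∨
      (χ ∈ (slDatum hg).princSet ∧ m = Fintype.card F + 1) ∨
      (χ ∈ (slDatum hg).discSet ∧ m = Fintype.card F - 1) ∨
      ((χ = a ∨ χ = a') ∧ m = (Fintype.card F + 1) / 2) ∨
      ((χ = b ∨ χ = b') ∧ m = (Fintype.card F - 1) / 2) := by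
  rcases T.complete χ hχ with rfl | rfl | h | h | rfl | rfl | rfl | rfl
  · exact Or.inl ⟨rfl, Nat.cast_injective (R := ℂ) (hm.symm.trans Nat.cast_one.symm)⟩
  · refine Or.inr (Or.inl ⟨rfl, ?_⟩)
    rw [St_degree] at hm
    exact (Nat.cast_injective hm).symm
  · refine Or.inr (Or.inr (Or.inl ⟨h, ?_⟩))
    rw [princ_degree h] at hm
    exact (Nat.cast_injective hm).symm
  · refine Or.inr (Or.inr (Or.inr (Or.inl ⟨h, ?_⟩)))
    rw [disc_degree h] at hm
    exact (Nat.cast_injective hm).symm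
  · refine Or.inr (Or.inr (Or.inr (Or.inr (Or.inl ⟨Or.inl rfl, ?_⟩))))
    rw [T.a_one] at hm
    exact (Nat.cast_injective hm).symm
  · refine Or.inr (Or.inr (Or.inr (Or.inr (Or.inl ⟨Or.inr rfl, ?_⟩))))
    rw [T.a'_one] at hm
    exact (Nat.cast_injective hm).symm
  · refine Or.inr (Or.inr (Or.inr (Or.inr (Or.inr ⟨Or.inl rfl, ?_⟩))))
    rw [T.b_one] at hm
    exact (Nat.cast_injective hm).symm
  · refine Or.inr (Or.inr (Or.inr (Or.inr (Or.inr ⟨Or.inr rfl, ?_⟩))))
    rw [T.b'_one] at hm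
    exact (Nat.cast_injective hm).symm

/-- For `q = 3` the discrete series vanishes on elliptic elements. -/
theorem disc_torus_three (h3 : Fintype.card F = 3) {χ : SLtwo F → ℂ}
    (hχ : χ ∈ (slDatum hg).discSet) (c : (slDatum hg).C)
    (hc : (c : SLtwo F) ∉ Subgroup.center (SLtwo F)) : χ c = 0 := by
  have h := sum_disc_torus hg (by rw [h3]; decide) c hc
  simp only [Complex.mul_conj] at h
  rw [h3, Nat.cast_ofNat, sub_self, ← Complex.ofReal_sum, Complex.ofReal_eq_zero,
    Finset.sum_eq_zero_iff_of_nonneg fun φ _ => Complex.normSq_nonneg _] at h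
  exact Complex.normSq_eq_zero.mp (h χ hχ)

end OddTable

/-- The irreducible character of degree `q` is the Steinberg character. -/
theorem eq_St_of_degree (hg : IsElliptic g₀) {χ : SLtwo F → ℂ} (hχ : IsIrrCharacter (SLtwo F) χ)
    (hm : χ 1 = (Fintype.card F : ℂ)) : χ = (slDatum hg).St := by
  have h1 : 1 < Fintype.card F := Fintype.one_lt_card
  by_cases h2 : (2 : F) = 0
  · rcases even_of_degree hg h2 hχ hm with h | h | h | h <;> first | exact h.1 | omega
  · have hodd : Odd (Fintype.card F) := two_ne_zero_iff_odd.1 h2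
    obtain ⟨μ₀, θ₀, a, a', b, b', T⟩ := exists_oddTable hg hodd
    rcases T.of_degree hχ hm with h | h | h | h | h | h <;> first | exact h.1 | omega

end Cfsg.Agent.Lib.RankSeries
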