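import Cfsg.Agent.Lib.RankSeries.SLBasic
import Cfsg.Agent.Lib.SL2.ToriExist

/-!
# The principal series of `SL₂` in terms of multiplicative characters
-/

set_option autoImplicit false

namespace Cfsg.Agent.Lib.RankSeries

open Cfsg.Agent.Lib
open Cfsg.Agent.Lib.SL2

attribute [-instance] MonoidHom.instPow MonoidHom.mul instOneMonoidHom MonoidHom.instCommMonoid
  MonoidHom.instInv MonoidHom.instDiv

variable {F : Type*} [Field F] [Fintype F] [DecidableEq F] {g₀ : SLtwo F} (hg : IsElliptic g₀)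

theorem indFun_mulChar (α : MulChar F ℂ) :
    indFun (borelSL F) (fun b => α (((b : SLtwo F) : Matrix (Fin 2) (Fin 2) F) 0 0)) =
      (slDatum hg).R α.toUnitHom := by
  unfold Datum.R
  congr 1

theorem toUnitHom_eq_iff (α β : MulChar F ℂ) : α.toUnitHom = β.toUnitHom ↔ α = β := by
  refine ⟨fun h => MulChar.ext fun u => ?_, fun h => by rw [h]⟩
  rw [← MulChar.coe_toUnitHom, ← MulChar.coe_toUnitHom, h]

theorem toUnitHom_inv (α : MulChar F ℂ) :
    α⁻¹.toUnitHom = α.toUnitHom.comp (slDatum hg).τ := by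
  refine MonoidHom.ext fun u => Units.ext ?_
  show ((α⁻¹.toUnitHom u : ℂˣ) : ℂ) = ((α.toUnitHom u⁻¹ : ℂˣ) : ℂ)
  rw [MulChar.coe_toUnitHom, MulChar.coe_toUnitHom, MulChar.inv_apply', Units.val_inv_eq_inv_val]

theorem sq_eq_one_iff' (α : MulChar F ℂ) : α ^ 2 = 1 ↔ α⁻¹ = α := by
  rw [pow_two, inv_eq_iff_mul_eq_one]

theorem comp_tau_ne_iff (α : MulChar F ℂ) :
    α.toUnitHom.comp (slDatum hg).τ ≠ α.toUnitHom ↔ α ^ 2 ≠ 1 := by
  rw [← toUnitHom_inv, not_iff_not, toUnitHom_eq_iff, sq_eq_one_iff']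

/-- A diagonal entry squared to one is fixed by inversion. -/
theorem inv_fixed_of_diag {g : SLtwo F} {a : Fˣ} (ha : (a : F) = g 0 0)
    (hd : ((a⁻¹ : Fˣ) : F) = g 1 1) : (g 0 0 ^ 2 ≠ 1 → a⁻¹ ≠ a) ∧ (g 0 0 = g 1 1 → a⁻¹ = a) := by
  refine ⟨fun h hf => h ?_, fun h => Units.ext ?_⟩
  · rw [← ha, sq_eq_one_iff]
    exact (inv_units_eq_iff a).mp hf
  · rw [hd, ha, h]

end Cfsg.Agent.Lib.RankSeries
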