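import Cfsg.Agent.Lib.RankSeries.SLBasic

/-!
# The irreducible characters of `SL₂(q)`, `q` odd
-/

set_option autoImplicit false

namespace Cfsg.Agent.Lib.RankSeries

open scoped ComplexConjugate
open Cfsg.Agent.Lib
open Cfsg.Agent.Lib.SL2

attribute [-instance] MonoidHom.instPow MonoidHom.mul instOneMonoidHom MonoidHom.instCommMonoid
  MonoidHom.instInv MonoidHom.instDiv

universe u

variable {F : Type u} [Field F] [Fintype F] [DecidableEq F]

local notation "qF" => Fintype.card F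

/-- The whole list of irreducible characters of `SL₂(q)`, `q` odd. -/
structure OddTable {g₀ : SLtwo F} (hg : IsElliptic g₀) (μ₀ : Fˣ →* ℂˣ)
    (θ₀ : (slDatum hg).C →* ℂˣ) (a a' b b' : SLtwo F → ℂ) : Prop where
  hμ : μ₀.comp (slDatum hg).τ = μ₀
  hμ1 : μ₀ ≠ 1
  hθ : θ₀.comp (slDatum hg).σ = θ₀
  hθ1 : θ₀ ≠ 1
  a_irr : IsIrrCharacter (SLtwo F) a
  a'_irr : IsIrrCharacter (SLtwo F) a'
  b_irr : IsIrrCharacter (SLtwo F) b
  b'_irr : IsIrrCharacter (SLtwo F) b'
  a_ne : a ≠ a'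
  b_ne : b ≠ b'
  sumR : (slDatum hg).R μ₀ = a + a'
  sumP : (slDatum hg).piC θ₀ = b + b'
  a_one : a 1 = (((qF + 1) / 2 : ℕ) : ℂ)
  a'_one : a' 1 = (((qF + 1) / 2 : ℕ) : ℂ)
  b_one : b 1 = (((qF - 1) / 2 : ℕ) : ℂ)
  b'_one : b' 1 = (((qF - 1) / 2 : ℕ) : ℂ)
  a_central : ∀ g, a (-1 * g) = (μ₀ (-1) : ℂ) * a g
  a'_central : ∀ g, a' (-1 * g) = (μ₀ (-1) : ℂ) * a' g
  b_central : ∀ g, b (-1 * g) = -(μ₀ (-1) : ℂ) * b g
  b'_central : ∀ g, b' (-1 * g) = -(μ₀ (-1) : ℂ) * b' g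
  complete : ∀ χ, IsIrrCharacter (SLtwo F) χ → χ = (fun _ => 1) ∨ χ = (slDatum hg).St ∨
    χ ∈ (slDatum hg).princSet ∨ χ ∈ (slDatum hg).discSet ∨ χ = a ∨ χ = a' ∨ χ = b ∨ χ = b'
  sum_irr : ∀ f : (SLtwo F → ℂ) → ℂ, ∑ χ : IrrCharacter (SLtwo F), f (χ : SLtwo F → ℂ) =
    f (fun _ => 1) + f (slDatum hg).St + ∑ χ ∈ (slDatum hg).princSet, f χ +
      ∑ χ ∈ (slDatum hg).discSet, f χ + (f a + f a' + f b + f b')

theorem inner_const_R {g₀ : SLtwo F} (hg : IsElliptic g₀) {μ : Fˣ →* ℂˣ} (h : μ ≠ 1) :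
    classInner ((slDatum hg).R μ) (fun _ => (1 : ℂ)) = 0 ∧
      classInner ((slDatum hg).R μ) (slDatum hg).St = 0 := by
  have h1 : classInner ((slDatum hg).R μ) ((slDatum hg).R 1) = 0 :=
    (slDatum hg).classInner_R_R_of_ne h (fun h' => h (by rw [h']; ext; simp))
  obtain ⟨k, hk⟩ := Chars.isCharacter_classInner_nat ((slDatum hg).R_isCharacter μ)
    (φ := (slDatum hg).R μ) (ψ := fun _ => (1 : ℂ))
    (Chars.irr_isCharacter (Chars.trivialIrr (SLtwo F)))
  obtain ⟨l, hl⟩ := Chars.isCharacter_classInner_nat ((slDatum hg).R_isCharacter μ)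
    (Chars.isCharacter_of_isIrrCharacter (slDatum hg).St_irr)
  have hsum : (slDatum hg).R 1 = (fun _ => (1 : ℂ)) + (slDatum hg).St := by
    funext g; simp [Datum.St]
  rw [hsum, Chars.classInner_add_right, hk, hl] at h1
  have : k + l = 0 := by exact_mod_cast h1
  rw [hk, hl]
  exact ⟨by simp [show k = 0 by omega], by simp [show l = 0 by omega]⟩

theorem exists_oddTable {g₀ : SLtwo F} (hg : IsElliptic g₀) (hodd : Odd qF) :
    ∃ μ₀ θ₀ a a' b b', OddTable hg μ₀ θ₀ a a' b b' := by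
  classical
  set Δ := slDatum hg with hΔ
  obtain ⟨μ₀, hμ, hμ1⟩ := exists_fixed_mu hg hodd
  obtain ⟨θ₀, hθ, hθ1⟩ := exists_fixed_theta hg hodd
  obtain ⟨hεv, hεθ⟩ := fixed_apply_neg_one hg hodd hμ hμ1 hθ hθ1
  set ε : ℂ := (μ₀ (-1) : ℂ) with hε
  have hεε : ε * ε = 1 := by
    rw [hεv, ← mul_pow]
    norm_num
  have hconjε : conj ε = ε := by
    rcases mul_self_eq_one_iff.mp hεε with h | h <;> simp [h]
  have hz : (-1 : SLtwo F) ∈ Subgroup.center (SLtwo F) := neg_one_mem_center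
  have hRc : ∀ g, Δ.R μ₀ (-1 * g) = ε * Δ.R μ₀ g := fun g => by
    have := Δ.R_mul_center μ₀ ⟨-1, neg_one_fixed hg⟩ g
    rw [← el_neg_one]
    exact this
  have hPc : ∀ g, Δ.piC θ₀ (-1 * g) = -ε * Δ.piC θ₀ g := fun g => by
    have := Δ.piC_mul_center θ₀ ⟨-1, neg_one_fixed hg⟩ g
    rw [← hεθ, ← el_neg_one]
    exact this
  -- the halves
  obtain ⟨a, a', hne, hsum⟩ :=
    exists_sum_of_char_norm_two (Δ.R_isCharacter μ₀) (Δ.classInner_R_self_fixed hμ)
  have hP2 : classInner (Δ.piC θ₀) (Δ.piC θ₀) = 2 := by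
    rw [Datum.piC, Δ.classInner_pi_pi (Δ.compatChoice_spec θ₀) (Δ.compatChoice_spec θ₀),
      if_pos rfl, if_pos hθ.symm]
    norm_num
  obtain ⟨b, b', s, t, hne', hs, ht, hsum'⟩ :=
    exists_pair_of_norm_two (Δ.pi_generalized θ₀ (Δ.compatChoice θ₀)) hP2
  change Δ.piC θ₀ = _ at hsum'
  have hs0 : (s : ℂ) ≠ 0 := by
    intro h
    rw [Int.cast_eq_zero] at h
    simp [h] at hs
  have ht0 : (t : ℂ) ≠ 0 := by
    intro h
    rw [Int.cast_eq_zero] at h
    simp [h] at ht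
  have hRa : classInner (Δ.R μ₀) (a : SLtwo F → ℂ) = 1 := by
    rw [hsum, Chars.classInner_add_left, Chars.classInner_irr_self,
      Chars.classInner_irr_of_ne hne.symm, add_zero]
  have hRa' : classInner (Δ.R μ₀) (a' : SLtwo F → ℂ) = 1 := by
    rw [hsum, Chars.classInner_add_left, Chars.classInner_irr_self,
      Chars.classInner_irr_of_ne hne, zero_add]
  have hPb : classInner (Δ.piC θ₀) (b : SLtwo F → ℂ) = (s : ℂ) := by
    rw [hsum', Chars.classInner_add_left, Chars.classInner_smul_left, Chars.classInner_smul_left,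
      Chars.classInner_irr_self, Chars.classInner_irr_of_ne hne'.symm, mul_one, mul_zero, add_zero]
  have hPb' : classInner (Δ.piC θ₀) (b' : SLtwo F → ℂ) = (t : ℂ) := by
    rw [hsum', Chars.classInner_add_left, Chars.classInner_smul_left, Chars.classInner_smul_left,
      Chars.classInner_irr_self, Chars.classInner_irr_of_ne hne', mul_one, mul_zero, zero_add]
  have hac : ∀ g, (a : SLtwo F → ℂ) (-1 * g) = ε * (a : SLtwo F → ℂ) g :=
    central_eq_of_classInner_ne a.2 hz hεε hRc (by rw [hRa]; exact one_ne_zero)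
  have hac' : ∀ g, (a' : SLtwo F → ℂ) (-1 * g) = ε * (a' : SLtwo F → ℂ) g :=
    central_eq_of_classInner_ne a'.2 hz hεε hRc (by rw [hRa']; exact one_ne_zero)
  have hεε' : -ε * -ε = 1 := by rw [neg_mul_neg, hεε]
  have hbc : ∀ g, (b : SLtwo F → ℂ) (-1 * g) = -ε * (b : SLtwo F → ℂ) g :=
    central_eq_of_classInner_ne b.2 hz hεε' hPc (by rw [hPb]; exact hs0)
  have hbc' : ∀ g, (b' : SLtwo F → ℂ) (-1 * g) = -ε * (b' : SLtwo F → ℂ) g :=
    central_eq_of_classInner_ne b'.2 hz hεε' hPc (by rw [hPb']; exact ht0)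
  have hopp : ε * conj (-ε) ≠ 1 := by
    rw [map_neg, hconjε, mul_neg, hεε]; norm_num
  have hopp' : -ε * conj ε ≠ 1 := by
    rw [hconjε, neg_mul, hεε]; norm_num
  -- separation by the inner products with the two reducible members
  let I : (SLtwo F → ℂ) → ℂ × ℂ := fun χ => (classInner (Δ.R μ₀) χ, classInner (Δ.piC θ₀) χ)
  have Ia : I a = (1, 0) :=
    Prod.ext hRa (classInner_eq_zero_of_central hPc hac hopp')
  have Ia' : I a' = (1, 0) :=
    Prod.ext hRa' (classInner_eq_zero_of_central hPc hac' hopp')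
  have Ib : I b = (0, (s : ℂ)) :=
    Prod.ext (classInner_eq_zero_of_central hRc hbc hopp) hPb
  have Ib' : I b' = (0, (t : ℂ)) :=
    Prod.ext (classInner_eq_zero_of_central hRc hbc' hopp) hPb'
  have I1 : I (fun _ => 1) = (0, 0) := Prod.ext (inner_const_R hg hμ1).1 (by
    show classInner (Δ.piC θ₀) _ = 0
    rw [Datum.piC, Δ.classInner_pi_one (Δ.compatChoice_spec θ₀), if_neg hθ1, neg_zero])
  have ISt : I Δ.St = (0, 0) := Prod.ext (inner_const_R hg hμ1).2 (by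
    show classInner (Δ.piC θ₀) (Δ.R 1 - fun _ => (1 : ℂ)) = 0
    rw [Chars.classInner_sub_right, Δ.classInner_piC_R, (show classInner (Δ.piC θ₀) (fun _ => (1 : ℂ)) = 0 from congrArg Prod.snd I1), sub_zero])
  have Ip : ∀ χ ∈ Δ.princSet, I χ = (0, 0) := fun χ hχ => by
    obtain ⟨ν, hν, rfl⟩ := Δ.mem_princSet.mp hχ
    refine Prod.ext (Δ.classInner_R_R_of_ne (fun h => hν (h ▸ hμ)) fun h => hν ?_)
      (Δ.classInner_piC_R θ₀ ν)
    have : ν = μ₀ := by rw [← hμ, h, Δ.comp_τ_τ]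
    rw [this, hμ]
  have Id : ∀ χ ∈ Δ.discSet, I χ = (0, 0) := fun χ hχ => by
    obtain ⟨η, hη, rfl⟩ := Δ.mem_discSet.mp hχ
    refine Prod.ext ?_ ?_
    · show classInner (Δ.R μ₀) (Δ.piC η) = 0
      rw [← Chars.conj_classInner, Δ.classInner_piC_R, map_zero]
    · show classInner (Δ.piC θ₀) (Δ.piC η) = 0
      rw [Datum.piC, Datum.piC,
        Δ.classInner_pi_pi (Δ.compatChoice_spec θ₀) (Δ.compatChoice_spec η),
        if_neg (fun h : θ₀ = η => hη (h ▸ hθ)), if_neg, add_zero]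
      intro h
      have : η = θ₀ := by rw [← hθ, h, Δ.comp_σ_σ]
      exact hη (by rw [this, hθ])
  have hq2 : 3 ≤ qF := by
    obtain ⟨k, hk⟩ := hodd
    have : 1 < qF := Fintype.one_lt_card
    omega
  have hK : Nat.card F = qF := Nat.card_eq_fintype_card
  let S₁ : Finset (SLtwo F → ℂ) := {fun _ => 1, Δ.St}
  let T₀ : Finset (SLtwo F → ℂ) := {(a : SLtwo F → ℂ), (a' : SLtwo F → ℂ)}
  let T₁ : Finset (SLtwo F → ℂ) := {(b : SLtwo F → ℂ), (b' : SLtwo F → ℂ)}
  have hI0 : ∀ χ ∈ S₁ ∪ Δ.princSet ∪ Δ.discSet, I χ = (0, 0) := by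
    intro χ hχ
    simp only [S₁, Finset.mem_union, Finset.mem_insert, Finset.mem_singleton] at hχ
    rcases hχ with ((rfl | rfl) | h) | h
    exacts [I1, ISt, Ip χ h, Id χ h]
  have hIT₀ : ∀ χ ∈ T₀, I χ = (1, 0) := by
    intro χ hχ
    simp only [T₀, Finset.mem_insert, Finset.mem_singleton] at hχ
    rcases hχ with rfl | rfl
    exacts [Ia, Ia']
  have hIT₁ : ∀ χ ∈ T₁, (I χ).1 = 0 ∧ (I χ).2 ≠ 0 := by
    intro χ hχ
    simp only [T₁, Finset.mem_insert, Finset.mem_singleton] at hχ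
    rcases hχ with rfl | rfl
    · rw [Ib]; exact ⟨rfl, hs0⟩
    · rw [Ib']; exact ⟨rfl, ht0⟩
  have hd1 : Disjoint S₁ Δ.princSet := by
    rw [Finset.disjoint_left]
    intro χ h1 h2
    have h3 := Δ.princSet_one h2
    rw [hK] at h3
    simp only [S₁, Finset.mem_insert, Finset.mem_singleton] at h1
    rcases h1 with rfl | rfl
    · have : ((qF + 1 : ℕ) : ℂ) = (1 : ℕ) := by push_cast; exact h3.symm
      have := Nat.cast_injective (R := ℂ) this
      omega
    · rw [Δ.St_one, hK] at h3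
      have : ((qF + 1 : ℕ) : ℂ) = (qF : ℕ) := by push_cast; exact h3.symm
      have := Nat.cast_injective (R := ℂ) this
      omega
  have hd2 : Disjoint (S₁ ∪ Δ.princSet) Δ.discSet := by
    rw [Finset.disjoint_left]
    intro χ h1 h2
    have h3 := Δ.discSet_one h2
    rw [hK] at h3
    simp only [S₁, Finset.mem_union, Finset.mem_insert, Finset.mem_singleton] at h1
    rcases h1 with (rfl | rfl) | h1
    · have : ((qF : ℕ) : ℂ) = (2 : ℕ) := by push_cast; linear_combination -h3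
      have := Nat.cast_injective (R := ℂ) this
      omega
    · rw [Δ.St_one, hK] at h3
      have : ((qF + 1 : ℕ) : ℂ) = (qF : ℕ) := by push_cast; linear_combination h3
      have := Nat.cast_injective (R := ℂ) this
      omega
    · rw [Δ.princSet_one h1, hK] at h3
      have : ((2 : ℕ) : ℂ) = (0 : ℕ) := by push_cast; linear_combination h3
      have := Nat.cast_injective (R := ℂ) this
      omega
  have hd3 : Disjoint (S₁ ∪ Δ.princSet ∪ Δ.discSet) T₀ := by
    rw [Finset.disjoint_left]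
    intro χ h1 h2
    have := (hI0 χ h1).symm.trans (hIT₀ χ h2)
    simp at this
  have hd4 : Disjoint (S₁ ∪ Δ.princSet ∪ Δ.discSet ∪ T₀) T₁ := by
    rw [Finset.disjoint_left]
    intro χ h1 h2
    obtain ⟨e1, e2⟩ := hIT₁ χ h2
    rcases Finset.mem_union.mp h1 with h | h
    · rw [hI0 χ h] at e2
      exact e2 rfl
    · rw [hIT₀ χ h] at e1
      exact one_ne_zero e1
  let S := S₁ ∪ Δ.princSet ∪ Δ.discSet ∪ T₀ ∪ T₁
  have hSt1 : (fun _ => (1 : ℂ)) ≠ Δ.St := fun h => by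
    have h' := congrFun h 1
    rw [Δ.St_one, hK] at h'
    have : qF = 1 := by exact_mod_cast h'.symm
    omega
  have hva : (a : SLtwo F → ℂ) ≠ (a' : SLtwo F → ℂ) := fun h => hne (Subtype.ext h)
  have hvb : (b : SLtwo F → ℂ) ≠ (b' : SLtwo F → ℂ) := fun h => hne' (Subtype.ext h)
  have hScard : S.card = qF + 4 := by
    simp only [S]
    rw [Finset.card_union_of_disjoint hd4, Finset.card_union_of_disjoint hd3,
      Finset.card_union_of_disjoint hd2, Finset.card_union_of_disjoint hd1,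
      Finset.card_pair hSt1, Finset.card_pair hva, Finset.card_pair hvb]
    have h1 := card_princ hg
    have h2 := card_disc hg
    obtain ⟨k, hk⟩ := hodd
    rw [hk, show 2 * k + 1 - 1 = 2 * k by omega, Nat.gcd_eq_right (dvd_mul_right 2 k)] at h1
    rw [hk, show 2 * k + 1 + 1 = 2 * (k + 1) by omega, Nat.gcd_eq_right (dvd_mul_right 2 _)] at h2
    rw [← hΔ] at h1 h2
    omega
  have hSirr : ∀ χ ∈ S, IsIrrCharacter (SLtwo F) χ := by
    intro χ hχ
    simp only [S, S₁, T₀, T₁, Finset.mem_union, Finset.mem_insert, Finset.mem_singleton] at hχ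
    rcases hχ with ((((rfl | rfl) | h) | h) | (rfl | rfl)) | (rfl | rfl)
    exacts [Chars.isIrrCharacter_one, Δ.St_irr, Δ.princSet_irr h, Δ.discSet_irr h, a.2, a'.2, b.2,
      b'.2]
  have hmem : ∀ χ, IsIrrCharacter (SLtwo F) χ → χ ∈ S := fun χ hχ =>
    mem_of_card_le S hSirr (by rw [card_conjClasses_odd hodd, hScard]) hχ
  have hsum_irr : ∀ f : (SLtwo F → ℂ) → ℂ, ∑ χ : IrrCharacter (SLtwo F), f (χ : SLtwo F → ℂ) =
      f (fun _ => 1) + f Δ.St + ∑ χ ∈ Δ.princSet, f χ + ∑ χ ∈ Δ.discSet, f χ +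
        (f a + f a' + f b + f b') := by
    intro f
    have h : ∑ χ : IrrCharacter (SLtwo F), f (χ : SLtwo F → ℂ) = ∑ φ ∈ S, f φ :=
      Finset.sum_bij (fun χ _ => (χ : SLtwo F → ℂ)) (fun χ _ => hmem _ χ.2)
        (fun χ _ ψ _ h => Subtype.ext h)
        (fun φ hφ => ⟨⟨φ, hSirr φ hφ⟩, Finset.mem_univ _, rfl⟩) fun _ _ => rfl
    rw [h]
    simp only [S]
    rw [Finset.sum_union hd4, Finset.sum_union hd3, Finset.sum_union hd2, Finset.sum_union hd1,
      Finset.sum_pair hSt1, Finset.sum_pair hva, Finset.sum_pair hvb]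
    ring
  -- degrees
  obtain ⟨da, hda0, hda⟩ := Chars.isIrrCharacter_exists_degree_pos a.2
  obtain ⟨da', hda'0, hda'⟩ := Chars.isIrrCharacter_exists_degree_pos a'.2
  obtain ⟨db, hdb0, hdb⟩ := Chars.isIrrCharacter_exists_degree_pos b.2
  obtain ⟨db', hdb'0, hdb'⟩ := Chars.isIrrCharacter_exists_degree_pos b'.2
  have hA : (da : ℤ) + da' = qF + 1 := by
    have h := congrFun hsum 1
    rw [Δ.R_one, Pi.add_apply, hda, hda', hK] at h
    exact_mod_cast h.symm
  have hB : s * db + t * db' = (qF : ℤ) - 1 := by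
    have h := congrFun hsum' 1
    rw [Δ.piC_one, Pi.add_apply, Pi.smul_apply, Pi.smul_apply, smul_eq_mul, smul_eq_mul, hdb, hdb',
      hK] at h
    exact_mod_cast h.symm
  have hQ : 2 * ((da : ℤ) ^ 2 + da' ^ 2 + db ^ 2 + db' ^ 2) = 2 * (qF : ℤ) ^ 2 + 2 := by
    have h := hsum_irr fun χ => χ 1 ^ 2
    rw [Chars.sum_degree_sq, card_SLtwo, hda, hda', hdb, hdb', Δ.St_one, hK,
      Finset.sum_congr (s₁ := Δ.princSet) rfl (g := fun _ => ((qF : ℂ) + 1) ^ 2)
        (fun χ hχ => by rw [Δ.princSet_one hχ, hK]),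
      Finset.sum_congr (s₁ := Δ.discSet) rfl (g := fun _ => ((qF : ℂ) - 1) ^ 2)
        (fun χ hχ => by rw [Δ.discSet_one hχ, hK]),
      Finset.sum_const, Finset.sum_const, nsmul_eq_mul, nsmul_eq_mul] at h
    have h1 := card_princ hg
    have h2 := card_disc hg
    obtain ⟨k, hk⟩ := hodd
    rw [hk, show 2 * k + 1 - 1 = 2 * k by omega, Nat.gcd_eq_right (dvd_mul_right 2 k)] at h1
    rw [hk, show 2 * k + 1 + 1 = 2 * (k + 1) by omega, Nat.gcd_eq_right (dvd_mul_right 2 _)] at h2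
    rw [← hΔ] at h1 h2
    have h1' : (Δ.princSet.card : ℂ) = (k : ℂ) - 1 := by
      rw [eq_sub_iff_add_eq]
      exact_mod_cast (by omega : Δ.princSet.card + 1 = k)
    have h2' : (Δ.discSet.card : ℂ) = (k : ℂ) :=
      congrArg Nat.cast (by omega : Δ.discSet.card = k)
    rw [h1', h2', Nat.cast_mul, Nat.cast_sub (Nat.one_le_pow _ _ (by omega)), Nat.cast_pow] at h
    simp only [hk, Nat.cast_add, Nat.cast_mul, Nat.cast_ofNat, Nat.cast_one, one_pow] at h
    have : ((2 * ((da : ℤ) ^ 2 + da' ^ 2 + db ^ 2 + db' ^ 2) : ℤ) : ℂ) =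
        ((2 * (2 * (k : ℤ) + 1) ^ 2 + 2 : ℤ) : ℂ) := by
      push_cast
      linear_combination (-2 : ℂ) * h
    have h' := Int.cast_injective this
    rw [hk]
    push_cast
    exact h'
  have hq3 : (3 : ℤ) ≤ qF := by exact_mod_cast hq2
  have p1 : (1 : ℤ) ≤ db := by exact_mod_cast hdb0
  have p2 : (1 : ℤ) ≤ db' := by exact_mod_cast hdb'0
  have hst : s = 1 ∧ t = 1 := by
    rcases Int.eq_one_or_neg_one_of_mul_eq_one hs with rfl | rfl <;>
      rcases Int.eq_one_or_neg_one_of_mul_eq_one ht with rfl | rfl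
    · exact ⟨rfl, rfl⟩
    · exfalso
      have e : (db : ℤ) = qF - 1 + db' := by linarith
      nlinarith [sq_nonneg ((da : ℤ) - da'), hA, hQ, sq_nonneg ((db' : ℤ) - 1)]
    · exfalso
      have e : (db' : ℤ) = qF - 1 + db := by linarith
      nlinarith [sq_nonneg ((da : ℤ) - da'), hA, hQ, sq_nonneg ((db : ℤ) - 1)]
    · exfalso
      linarith
  obtain ⟨rfl, rfl⟩ := hst
  simp only [one_mul] at hB
  have h0 : ((da : ℤ) - da') ^ 2 + ((db : ℤ) - db') ^ 2 = 0 := by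
    linear_combination hQ - (da + da' + (qF : ℤ) + 1) * hA - (db + db' + (qF : ℤ) - 1) * hB
  have ha0 : (da : ℤ) - da' = 0 := by nlinarith [sq_nonneg ((db : ℤ) - db')]
  have hb0 : (db : ℤ) - db' = 0 := by nlinarith [sq_nonneg ((da : ℤ) - da')]
  refine ⟨μ₀, θ₀, a, a', b, b',
    { hμ := hμ, hμ1 := hμ1, hθ := hθ, hθ1 := hθ1, a_irr := a.2, a'_irr := a'.2, b_irr := b.2,
      b'_irr := b'.2, a_ne := hva, b_ne := hvb, sumR := hsum,
      sumP := by
        show Δ.piC θ₀ = _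
        rw [hsum', Int.cast_one, one_smul, one_smul]
      a_one := ?_, a'_one := ?_, b_one := ?_, b'_one := ?_,
      a_central := hac, a'_central := hac', b_central := hbc, b'_central := hbc',
      complete := fun χ hχ => ?_, sum_irr := hsum_irr }⟩
  · rw [hda]; congr 1; omega
  · rw [hda']; congr 1; omega
  · rw [hdb]; congr 1; omega
  · rw [hdb']; congr 1; omega
  · have := hmem χ hχ
    simp only [S, S₁, T₀, T₁, Finset.mem_union, Finset.mem_insert, Finset.mem_singleton] at this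
    tauto

end Cfsg.Agent.Lib.RankSeries
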