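import Cfsg.Agent.Lib.RankSeries.SLOddValues

/-!
# The values of the four half characters at unipotent elements
-/

set_option autoImplicit false

namespace Cfsg.Agent.Lib.RankSeries

open scoped ComplexConjugate
open Cfsg.Agent.Lib
open Cfsg.Agent.Lib.SL2

attribute [-instance] MonoidHom.instPow MonoidHom.mul instOneMonoidHom MonoidHom.instCommMonoid
  MonoidHom.instInv MonoidHom.instDiv

universe u

variable {F : Type u} [Field F] [Fintype F] [DecidableEq F] {g₀ : SLtwo F} {hg : IsElliptic g₀}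
  {μ₀ : Fˣ →* ℂˣ} {θ₀ : (slDatum hg).C →* ℂˣ} {a a' b b' : SLtwo F → ℂ}

theorem neg_one_pow_half (hodd : Odd (Fintype.card F)) :
    (IsSquare (-1 : F) → (-1 : ℂ) ^ ((Fintype.card F - 1) / 2) = 1) ∧
      (¬IsSquare (-1 : F) → (-1 : ℂ) ^ ((Fintype.card F - 1) / 2) = -1) := by
  have h2 : (2 : F) ≠ 0 := two_ne_zero_iff_odd.2 hodd
  have hchar : ringChar F ≠ 2 := fun h => h2 (by
    have := ringChar.Nat.cast_ringChar (R := F)
    rw [h] at this
    exact_mod_cast this)
  have hhalf : Fintype.card F / 2 = (Fintype.card F - 1) / 2 := by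
    obtain ⟨k, hk⟩ := hodd
    omega
  rw [FiniteField.isSquare_iff hchar (neg_ne_zero.mpr one_ne_zero), hhalf]
  rcases Nat.even_or_odd ((Fintype.card F - 1) / 2) with he | he
  · exact ⟨fun _ => he.neg_one_pow, fun h => absurd he.neg_one_pow h⟩
  · refine ⟨fun h => absurd h ?_, fun _ => he.neg_one_pow⟩
    rw [he.neg_one_pow]
    exact fun h' => h2 (by linear_combination -h')

theorem eq_neg_of_cross {x X y Y : ℂ} {r : ℝ} (hx : Complex.normSq x = r)
    (hX : Complex.normSq X = r) (hy : Complex.normSq y = r) (hY : Complex.normSq Y = r)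
    (h : x * conj X + y * conj Y = ((-2 * r : ℝ) : ℂ)) : X = -x ∧ Y = -y := by
  have h1 := congrArg Complex.re h
  rw [Complex.add_re, Complex.ofReal_re] at h1
  have h2 : Complex.normSq (x + X) + Complex.normSq (y + Y) = 0 := by
    rw [Complex.normSq_add, Complex.normSq_add, hx, hX, hy, hY]
    linarith
  have e1 := Complex.normSq_nonneg (x + X)
  have e2 := Complex.normSq_nonneg (y + Y)
  exact ⟨eq_neg_of_add_eq_zero_right (Complex.normSq_eq_zero.mp (by linarith)),
    eq_neg_of_add_eq_zero_right (Complex.normSq_eq_zero.mp (by linarith))⟩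

namespace OddTable

variable (T : OddTable hg μ₀ θ₀ a a' b b') (hodd : Odd (Fintype.card F))

include T hodd

theorem unip_opp {y z : F} (hy : y ≠ 0) (hz : z ≠ 0) (hsq : ¬IsSquare (y * z)) :
    2 * a (el 1 z) - 1 = -(2 * a (el 1 y) - 1) ∧ 2 * b (el 1 z) + 1 = -(2 * b (el 1 y) + 1) := by
  have h := Chars.column_orthogonality_of_not_isConj
    (fun hc => hsq ((el_one_conj hy hz).mp hc))
  rw [T.unip_cross hodd hy hz] at h
  refine eq_neg_of_cross (T.normSq_unip hodd hy).1 (T.normSq_unip hodd hz).1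
    (T.normSq_unip hodd hy).2 (T.normSq_unip hodd hz).2 ?_
  push_cast
  linear_combination 2 * h

theorem sum_unip {y z : F} (hy : y ≠ 0) (hz : z ≠ 0) (hsq : ¬IsSquare (y * z)) :
    a (el 1 y) + a (el 1 z) = 1 ∧ a' (el 1 y) + a' (el 1 z) = 1 ∧
      b (el 1 y) + b (el 1 z) = -1 ∧ b' (el 1 y) + b' (el 1 z) = -1 := by
  obtain ⟨h1, h2⟩ := T.unip_opp hodd hy hz hsq
  refine ⟨by linear_combination h1 / 2, ?_, by linear_combination h2 / 2, ?_⟩
  · linear_combination T.a_sum_unip hodd hy + T.a_sum_unip hodd hz - h1 / 2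
  · linear_combination T.b_sum_unip hodd hy + T.b_sum_unip hodd hz - h2 / 2

theorem unip_sq {y : F} (hy : y ≠ 0) :
    (2 * a (el 1 y) - 1) ^ 2 = (-1 : ℂ) ^ ((Fintype.card F - 1) / 2) * (Fintype.card F : ℂ) ∧
      (2 * a' (el 1 y) - 1) ^ 2 = (-1 : ℂ) ^ ((Fintype.card F - 1) / 2) * (Fintype.card F : ℂ) ∧
      (2 * b (el 1 y) + 1) ^ 2 = (-1 : ℂ) ^ ((Fintype.card F - 1) / 2) * (Fintype.card F : ℂ) ∧
      (2 * b' (el 1 y) + 1) ^ 2 =
        (-1 : ℂ) ^ ((Fintype.card F - 1) / 2) * (Fintype.card F : ℂ) := by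
  obtain ⟨hn, hn'⟩ := T.normSq_unip hodd hy
  have hny : -y ≠ 0 := neg_ne_zero.mpr hy
  have hca : ∀ {f : SLtwo F → ℂ}, IsIrrCharacter (SLtwo F) f →
      conj (f (el 1 y)) = f (el 1 (-y)) := fun {f} hf => by
    rw [← el_one_inv]
    exact (Chars.irr_inv ⟨f, hf⟩ _).symm
  have hx : conj (2 * a (el 1 y) - 1) = 2 * a (el 1 (-y)) - 1 := by
    rw [map_sub, map_mul, map_one, hca T.a_irr, Complex.conj_ofNat]
  have hy' : conj (2 * b (el 1 y) + 1) = 2 * b (el 1 (-y)) + 1 := by
    rw [map_add, map_mul, map_one, hca T.b_irr, Complex.conj_ofNat]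
  have key : (2 * a (el 1 y) - 1) ^ 2 =
        (-1 : ℂ) ^ ((Fintype.card F - 1) / 2) * (Fintype.card F : ℂ) ∧
      (2 * b (el 1 y) + 1) ^ 2 =
        (-1 : ℂ) ^ ((Fintype.card F - 1) / 2) * (Fintype.card F : ℂ) := by
    obtain ⟨p1, p2⟩ := neg_one_pow_half hodd
    have m1 := Complex.mul_conj (2 * a (el 1 y) - 1)
    have m2 := Complex.mul_conj (2 * b (el 1 y) + 1)
    rw [hn, Complex.ofReal_natCast, hx] at m1
    rw [hn', Complex.ofReal_natCast, hy'] at m2
    by_cases hs : IsSquare (-1 : F)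
    · have hc : IsConj (el (1 : Fˣ) y) (el 1 (-y)) := (el_one_conj hy hny).mpr (by
        rw [show y * -y = -1 * (y * y) by ring]
        exact hs.mul ⟨y, rfl⟩)
      have ea : a (el 1 (-y)) = a (el 1 y) :=
        Chars.isClassFunction_apply_eq (Chars.irr_isClassFunction ⟨a, T.a_irr⟩) hc
      have eb : b (el 1 (-y)) = b (el 1 y) :=
        Chars.isClassFunction_apply_eq (Chars.irr_isClassFunction ⟨b, T.b_irr⟩) hc
      rw [ea] at m1
      rw [eb] at m2
      rw [p1 hs, one_mul, ← m1, pow_two]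
      exact ⟨rfl, by rw [pow_two]; exact m2.trans m1.symm⟩
    · have hnc : ¬IsSquare (y * -y) := fun h => hs (by
        obtain ⟨r, hr⟩ := h
        exact ⟨r / y, by field_simp; linear_combination hr⟩)
      obtain ⟨o1, o2⟩ := T.unip_opp hodd hy hny hnc
      rw [o1] at m1
      rw [o2] at m2
      rw [p2 hs]
      exact ⟨by linear_combination -m1, by linear_combination -m2⟩
  have ha' : 2 * a' (el 1 y) - 1 = -(2 * a (el 1 y) - 1) := by
    linear_combination 2 * T.a_sum_unip hodd hy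
  have hb' : 2 * b' (el 1 y) + 1 = -(2 * b (el 1 y) + 1) := by
    linear_combination 2 * T.b_sum_unip hodd hy
  rw [ha', hb', neg_sq, neg_sq]
  exact ⟨key.1, key.1, key.2, key.2⟩

theorem unip_ne {y : F} (hy : y ≠ 0) : a (el 1 y) ≠ a' (el 1 y) ∧ b (el 1 y) ≠ b' (el 1 y) := by
  obtain ⟨hn, hn'⟩ := T.normSq_unip hodd hy
  have hq : (0 : ℝ) < (Fintype.card F : ℝ) := Nat.cast_pos.mpr Fintype.card_pos
  constructor <;> intro h
  · have : 2 * a (el 1 y) - 1 = 0 := by linear_combination h + T.a_sum_unip hodd hy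
    rw [this, map_zero] at hn
    linarith
  · have : 2 * b (el 1 y) + 1 = 0 := by linear_combination h + T.b_sum_unip hodd hy
    rw [this, map_zero] at hn'
    linarith

end OddTable

end Cfsg.Agent.Lib.RankSeries
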