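import Cfsg.Agent.Lib.RankSeries.SLOdd

/-!
# Values of the characters of `SL₂(q)`, `q` odd, by column orthogonality
-/

set_option autoImplicit false

namespace Cfsg.Agent.Lib.RankSeries

open scoped ComplexConjugate
open Cfsg.Agent.Lib
open Cfsg.Agent.Lib.SL2

attribute [-instance] MonoidHom.instPow MonoidHom.mul instOneMonoidHom MonoidHom.instCommMonoid
  MonoidHom.instInv MonoidHom.instDiv

universe u

variable {F : Type u} [Field F] [Fintype F] [DecidableEq F] {g₀ : SLtwo F} {hg : IsElliptic g₀}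
  {μ₀ : Fˣ →* ℂˣ} {θ₀ : (slDatum hg).C →* ℂˣ} {a a' b b' : SLtwo F → ℂ}

local notation "qF" => Fintype.card F

theorem pair_normSq {u v e : ℂ} {c : ℝ} (h : u + v = 2 * e) (hc : Complex.normSq e = c) :
    Complex.normSq u + Complex.normSq v = 2 * Complex.normSq (u - e) + 2 * c := by
  have hv : v = 2 * e - u := by rw [← h]; ring
  subst hv
  rw [← hc]
  simp [Complex.normSq_apply]
  ring

theorem normSq_halves {u v : ℂ} (h : u + v = 1) :
    Complex.normSq u + Complex.normSq v = (1 + Complex.normSq (2 * u - 1)) / 2 := by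
  have hv : v = 1 - u := by rw [← h]; ring
  subst hv
  simp [Complex.normSq_apply]
  ring

theorem normSq_halves_neg {u v : ℂ} (h : u + v = -1) :
    Complex.normSq u + Complex.normSq v = (1 + Complex.normSq (2 * u + 1)) / 2 := by
  have hv : v = -1 - u := by rw [← h]; ring
  subst hv
  simp [Complex.normSq_apply]
  ring

theorem cross_halves {u v u' v' : ℂ} (h : u + v = 1) (h' : u' + v' = 1) :
    u * conj u' + v * conj v' = (1 + (2 * u - 1) * conj (2 * u' - 1)) / 2 := by
  have hv : v = 1 - u := by rw [← h]; ring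
  have hv' : v' = 1 - u' := by rw [← h']; ring
  subst hv hv'
  simp only [map_sub, map_mul, map_one, Complex.conj_ofNat]
  ring

theorem cross_halves_neg {u v u' v' : ℂ} (h : u + v = -1) (h' : u' + v' = -1) :
    u * conj u' + v * conj v' = (1 + (2 * u + 1) * conj (2 * u' + 1)) / 2 := by
  have hv : v = -1 - u := by rw [← h]; ring
  have hv' : v' = -1 - u' := by rw [← h']; ring
  subst hv hv'
  simp only [map_sub, map_add, map_mul, map_one, map_neg, Complex.conj_ofNat]
  ring

theorem normSq_hom {A : Type*} [Group A] [Finite A] (μ : A →* ℂˣ) (x : A) :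
    Complex.normSq (μ x : ℂ) = 1 := by
  rw [Complex.normSq_eq_norm_sq, Chars.norm_hom_apply, one_pow]

variable (hg) in
/-- The sum over the principal series of the squared values at a split element. -/
theorem sum_princ_split (hodd : Odd qF) (x : Fˣ) (y : F) (hx : x⁻¹ ≠ x) :
    ∑ χ ∈ (slDatum hg).princSet, χ (el x y) * conj (χ (el x y)) = (qF : ℂ) - 5 := by
  classical
  letI : Fintype (Fˣ →* ℂˣ) := Fintype.ofFinite _
  let P : (Fˣ →* ℂˣ) → ℂ := fun μ => ((μ x : ℂ) + (μ x⁻¹ : ℂ)) * conj ((μ x : ℂ) + (μ x⁻¹ : ℂ))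
  let U := Finset.univ.filter fun μ : Fˣ →* ℂˣ => μ.comp (slDatum hg).τ ≠ μ
  have hset : (slDatum hg).princSet = U.image (slDatum hg).R := by
    ext χ
    simp [U, Datum.mem_princSet, eq_comm]
  have h2 := two_mul_sum_image U (fun μ => μ.comp (slDatum hg).τ) (slDatum hg).R (fun μ hμ => by
    rw [Finset.mem_filter] at hμ ⊢
    exact ⟨⟨Finset.mem_univ _, by rw [(slDatum hg).comp_τ_τ]; exact Ne.symm hμ.2⟩, hμ.2⟩)
    (fun μ _ ν _ => (slDatum hg).R_eq_iff) fun χ => χ (el x y) * conj (χ (el x y))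
  have hval : ∀ μ, (slDatum hg).R μ (el x y) * conj ((slDatum hg).R μ (el x y)) = P μ := fun μ => by
    have h := (slDatum hg).R_split μ (a := x) y hx
    show (slDatum hg).R μ _ * conj ((slDatum hg).R μ _) = _
    rw [show (el x y : SLtwo F) = (((slDatum hg).e (x, y) : (slDatum hg).B) : SLtwo F) from rfl, h]
    rfl
  have hfix : ∀ μ ∈ Finset.univ.filter (fun μ : Fˣ →* ℂˣ => ¬μ.comp (slDatum hg).τ ≠ μ), P μ = 4 := by
    intro μ hμ
    have hμ' : μ.comp (slDatum hg).τ = μ := not_not.mp (Finset.mem_filter.mp hμ).2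
    have hi : μ x⁻¹ = μ x := DFunLike.congr_fun hμ' x
    show ((μ x : ℂ) + (μ x⁻¹ : ℂ)) * conj ((μ x : ℂ) + (μ x⁻¹ : ℂ)) = 4
    rw [hi, Complex.mul_conj, ← two_mul, Complex.normSq_mul, normSq_hom]
    norm_num
  have hsplit := Finset.sum_filter_add_sum_filter_not Finset.univ
    (fun μ : Fˣ →* ℂˣ => μ.comp (slDatum hg).τ ≠ μ) P
  have hcard : (Finset.univ.filter fun μ : Fˣ →* ℂˣ => ¬μ.comp (slDatum hg).τ ≠ μ).card = 2 := by
    have h := card_fixed_mu hg
    obtain ⟨k, hk⟩ := hodd
    rw [Nat.card_eq_fintype_card, Fintype.card_subtype, hk,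
      show 2 * k + 1 - 1 = 2 * k by omega, Nat.gcd_eq_right (dvd_mul_right 2 k)] at h
    simpa only [ne_eq, not_not] using h
  rw [Finset.sum_congr rfl hfix, Finset.sum_const, hcard, sum_pair_all x hx, Nat.card_units,
    Nat.card_eq_fintype_card, Nat.cast_sub Fintype.card_pos] at hsplit
  simp only [hval] at h2
  rw [← hset] at h2
  norm_num at hsplit
  refine mul_left_cancel₀ (two_ne_zero' ℂ) (h2.trans ?_)
  linear_combination hsplit

variable (hg) in
/-- The sum over the discrete series of the squared values at an elliptic element. -/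
theorem sum_disc_torus (hodd : Odd qF) (c : (slDatum hg).C)
    (hc : (c : SLtwo F) ∉ Subgroup.center (SLtwo F)) :
    ∑ χ ∈ (slDatum hg).discSet, χ c * conj (χ c) = (qF : ℂ) - 3 := by
  classical
  letI : CommGroup (slDatum hg).C := { (inferInstance : Group (slDatum hg).C) with mul_comm := (slDatum hg).C_comm }
  letI : Fintype ((slDatum hg).C →* ℂˣ) := Fintype.ofFinite _
  let P : ((slDatum hg).C →* ℂˣ) → ℂ := fun θ => ((θ c : ℂ) + (θ c⁻¹ : ℂ)) * conj ((θ c : ℂ) + (θ c⁻¹ : ℂ))
  let U := Finset.univ.filter fun θ : (slDatum hg).C →* ℂˣ => θ.comp (slDatum hg).σ ≠ θ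
  have hset : (slDatum hg).discSet = U.image (slDatum hg).piC := by
    ext χ
    simp [U, Datum.mem_discSet, eq_comm]
  have h2 := two_mul_sum_image U (fun θ => θ.comp (slDatum hg).σ) (slDatum hg).piC (fun θ hθ => by
    rw [Finset.mem_filter] at hθ ⊢
    exact ⟨⟨Finset.mem_univ _, by rw [(slDatum hg).comp_σ_σ]; exact Ne.symm hθ.2⟩, hθ.2⟩)
    (fun θ _ θ' _ => (slDatum hg).pi_eq_iff ((slDatum hg).compatChoice_spec θ) ((slDatum hg).compatChoice_spec θ'))
    fun χ => χ c * conj (χ c)
  have hcne : c⁻¹ ≠ c := (slDatum hg).σ_ne c hc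
  have hval : ∀ θ, (slDatum hg).piC θ c * conj ((slDatum hg).piC θ c) = P θ := fun θ => by
    rw [(slDatum hg).piC_torus θ c hc, map_neg, neg_mul_neg]
    rfl
  have hfix : ∀ θ ∈ Finset.univ.filter (fun θ : (slDatum hg).C →* ℂˣ => ¬θ.comp (slDatum hg).σ ≠ θ), P θ = 4 := by
    intro θ hθ
    have hθ' : θ.comp (slDatum hg).σ = θ := not_not.mp (Finset.mem_filter.mp hθ).2
    have hi : θ c⁻¹ = θ c := DFunLike.congr_fun hθ' c
    show ((θ c : ℂ) + (θ c⁻¹ : ℂ)) * conj ((θ c : ℂ) + (θ c⁻¹ : ℂ)) = 4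
    rw [hi, Complex.mul_conj, ← two_mul, Complex.normSq_mul, normSq_hom]
    norm_num
  have hsplit := Finset.sum_filter_add_sum_filter_not Finset.univ
    (fun θ : (slDatum hg).C →* ℂˣ => θ.comp (slDatum hg).σ ≠ θ) P
  have hcard : (Finset.univ.filter fun θ : (slDatum hg).C →* ℂˣ => ¬θ.comp (slDatum hg).σ ≠ θ).card = 2 := by
    have h := card_fixed_theta hg
    obtain ⟨k, hk⟩ := hodd
    rw [Nat.card_eq_fintype_card, Fintype.card_subtype, hk,
      show 2 * k + 1 + 1 = 2 * (k + 1) by omega, Nat.gcd_eq_right (dvd_mul_right 2 _)] at h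
    simpa only [ne_eq, not_not] using h
  rw [Finset.sum_congr rfl hfix, Finset.sum_const, hcard, sum_pair_all c hcne,
    card_C hg] at hsplit
  simp only [hval] at h2
  rw [← hset] at h2
  push_cast at hsplit
  refine mul_left_cancel₀ (two_ne_zero' ℂ) (h2.trans ?_)
  linear_combination hsplit

namespace OddTable

variable (T : OddTable hg μ₀ θ₀ a a' b b') (hodd : Odd (Fintype.card F))

include T hodd

theorem sum_R (g : SLtwo F) : a g + a' g = (slDatum hg).R μ₀ g := by
  rw [T.sumR]; rfl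

theorem sum_P (g : SLtwo F) : b g + b' g = (slDatum hg).piC θ₀ g := by
  rw [T.sumP]; rfl

theorem split_values (x : Fˣ) (y : F) (hx : x⁻¹ ≠ x) :
    a (el x y) = μ₀ x ∧ a' (el x y) = μ₀ x ∧ b (el x y) = 0 ∧ b' (el x y) = 0 := by
  have hR : a (el x y) + a' (el x y) = 2 * (μ₀ x : ℂ) := by
    rw [T.sum_R hodd]
    have h := (slDatum hg).R_split μ₀ (a := x) y hx
    rw [show (μ₀ ((slDatum hg).τ x) : ℂ) = (μ₀ x : ℂ) from
      congrArg Units.val (DFunLike.congr_fun T.hμ x)] at h
    rw [two_mul]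
    exact h
  have h := Chars.column_orthogonality_of_isConj (IsConj.refl (el x y : SLtwo F))
  rw [T.sum_irr (fun χ => χ (el x y) * conj (χ (el x y))), St_split hg x y hx, map_one, mul_one,
    sum_princ_split hg hodd x y hx, Finset.sum_eq_zero (s := (slDatum hg).discSet) fun χ hχ => ?_,
    card_centralizer_split (el_split_isSplit y hx), Nat.cast_sub Fintype.card_pos, Nat.cast_one,
    Complex.mul_conj, Complex.mul_conj, Complex.mul_conj, Complex.mul_conj] at h
  · have h' : Complex.normSq (a (el x y)) + Complex.normSq (a' (el x y)) +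
        Complex.normSq (b (el x y)) + Complex.normSq (b' (el x y)) = 2 := by
      have h'' : ((Complex.normSq (a (el x y)) + Complex.normSq (a' (el x y)) +
        Complex.normSq (b (el x y)) + Complex.normSq (b' (el x y)) : ℝ) : ℂ) = ((2 : ℝ) : ℂ) := by
        push_cast
        linear_combination h
      exact Complex.ofReal_injective h''
    rw [pair_normSq hR (normSq_hom μ₀ x)] at h'
    have e1 := Complex.normSq_nonneg (a (el x y) - μ₀ x)
    have e2 := Complex.normSq_nonneg (b (el x y))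
    have e3 := Complex.normSq_nonneg (b' (el x y))
    have ha : a (el x y) = μ₀ x := sub_eq_zero.mp (Complex.normSq_eq_zero.mp (by linarith))
    refine ⟨ha, ?_, Complex.normSq_eq_zero.mp (by linarith), Complex.normSq_eq_zero.mp (by linarith)⟩
    linear_combination hR - ha
  · obtain ⟨θ, -, rfl⟩ := (slDatum hg).mem_discSet.mp hχ
    have h0 := (slDatum hg).piC_split θ (a := x) y hx
    show (slDatum hg).piC θ _ * _ = 0
    rw [show (el x y : SLtwo F) = (((slDatum hg).e (x, y) : (slDatum hg).B) : SLtwo F) from rfl, h0,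
      zero_mul]

theorem torus_values (c : (slDatum hg).C) (hc : (c : SLtwo F) ∉ Subgroup.center (SLtwo F)) :
    a c = 0 ∧ a' c = 0 ∧ b c = -(θ₀ c : ℂ) ∧ b' c = -(θ₀ c : ℂ) := by
  have hP : b c + b' c = 2 * -(θ₀ c : ℂ) := by
    rw [T.sum_P hodd, (slDatum hg).piC_torus θ₀ c hc,
      show θ₀ ((slDatum hg).σ c) = θ₀ c from DFunLike.congr_fun T.hθ c]
    ring
  have h := Chars.column_orthogonality_of_isConj (IsConj.refl (c : SLtwo F))
  rw [T.sum_irr (fun χ => χ c * conj (χ c)), St_torus hg c hc, map_neg, map_one, neg_mul_neg,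
    mul_one, sum_disc_torus hg hodd c hc,
    Finset.sum_eq_zero (s := (slDatum hg).princSet) fun χ hχ => ?_,
    card_centralizer_elliptic (elliptic_of_mem_centralizer hg c.2 hc), Nat.cast_add, Nat.cast_one,
    Complex.mul_conj, Complex.mul_conj, Complex.mul_conj, Complex.mul_conj] at h
  · have h' : Complex.normSq (b c) + Complex.normSq (b' c) +
        Complex.normSq (a c) + Complex.normSq (a' c) = 2 := by
      have h'' : ((Complex.normSq (b c) + Complex.normSq (b' c) +
        Complex.normSq (a c) + Complex.normSq (a' c) : ℝ) : ℂ) = ((2 : ℝ) : ℂ) := by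
        push_cast
        linear_combination h
      exact Complex.ofReal_injective h''
    rw [pair_normSq (c := (1 : ℝ)) hP (by rw [Complex.normSq_neg]; exact normSq_hom θ₀ c)] at h'
    have e1 := Complex.normSq_nonneg (b c - -(θ₀ c : ℂ))
    have e2 := Complex.normSq_nonneg (a c)
    have e3 := Complex.normSq_nonneg (a' c)
    have hb : b c = -(θ₀ c : ℂ) := sub_eq_zero.mp (Complex.normSq_eq_zero.mp (by linarith))
    refine ⟨Complex.normSq_eq_zero.mp (by linarith), Complex.normSq_eq_zero.mp (by linarith), hb, ?_⟩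
    linear_combination hP - hb
  · obtain ⟨μ, -, rfl⟩ := (slDatum hg).mem_princSet.mp hχ
    rw [(slDatum hg).R_torus μ c hc, zero_mul]

/-! ### Unipotent elements -/

theorem a_sum_unip {y : F} (hy : y ≠ 0) : a (el 1 y) + a' (el 1 y) = 1 := by
  rw [T.sum_R hodd]
  have h := (slDatum hg).R_parab μ₀ (a := 1) (x := y) (map_one _) hy
  rw [map_one, Units.val_one] at h
  exact h

theorem b_sum_unip {y : F} (hy : y ≠ 0) : b (el 1 y) + b' (el 1 y) = -1 := by
  rw [T.sum_P hodd]
  have h := (slDatum hg).pi_parab (θ := θ₀) (μ := (slDatum hg).compatChoice θ₀) (a := 1) (x := y)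
    (map_one _) hy
  rw [map_one, Units.val_one] at h
  exact h

omit T hodd in
theorem princ_unip {χ : SLtwo F → ℂ} (hχ : χ ∈ (slDatum hg).princSet) {y : F} (hy : y ≠ 0) :
    χ (el 1 y) = 1 := by
  obtain ⟨μ, -, rfl⟩ := (slDatum hg).mem_princSet.mp hχ
  have h := (slDatum hg).R_parab μ (a := 1) (x := y) (map_one _) hy
  rw [map_one, Units.val_one] at h
  exact h

omit T hodd in
theorem disc_unip {χ : SLtwo F → ℂ} (hχ : χ ∈ (slDatum hg).discSet) {y : F} (hy : y ≠ 0) :
    χ (el 1 y) = -1 := by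
  obtain ⟨θ, -, rfl⟩ := (slDatum hg).mem_discSet.mp hχ
  have h := (slDatum hg).pi_parab (θ := θ) (μ := (slDatum hg).compatChoice θ) (a := 1) (x := y)
    (map_one _) hy
  rw [map_one, Units.val_one] at h
  exact h

theorem card_series : ((slDatum hg).princSet.card : ℂ) + (slDatum hg).discSet.card = (qF : ℂ) - 2 := by
  have h1 := card_princ hg
  have h2 := card_disc hg
  obtain ⟨k, hk⟩ := hodd
  rw [hk, show 2 * k + 1 - 1 = 2 * k by omega, Nat.gcd_eq_right (dvd_mul_right 2 k)] at h1
  rw [hk, show 2 * k + 1 + 1 = 2 * (k + 1) by omega, Nat.gcd_eq_right (dvd_mul_right 2 _)] at h2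
  rw [eq_sub_iff_add_eq]
  exact_mod_cast (by omega :
    (slDatum hg).princSet.card + (slDatum hg).discSet.card + 2 = qF)

/-- The orthogonality relation between two unipotent elements. -/
theorem unip_cross {y z : F} (hy : y ≠ 0) (hz : z ≠ 0) :
    ∑ χ : IrrCharacter (SLtwo F), (χ : SLtwo F → ℂ) (el 1 y) * conj ((χ : SLtwo F → ℂ) (el 1 z)) =
      (qF : ℂ) + ((2 * a (el 1 y) - 1) * conj (2 * a (el 1 z) - 1) +
        (2 * b (el 1 y) + 1) * conj (2 * b (el 1 z) + 1)) / 2 := by
  rw [T.sum_irr (fun χ => χ (el 1 y) * conj (χ (el 1 z))), St_parab hg 1 inv_one hy, zero_mul,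
    map_one, mul_one,
    Finset.sum_congr (s₁ := (slDatum hg).princSet) rfl (g := fun _ => (1 : ℂ))
      (fun χ hχ => by rw [princ_unip hχ hy, princ_unip hχ hz, map_one, mul_one]),
    Finset.sum_congr (s₁ := (slDatum hg).discSet) rfl (g := fun _ => (1 : ℂ))
      (fun χ hχ => by rw [disc_unip hχ hy, disc_unip hχ hz, map_neg, map_one, neg_mul_neg, mul_one]),
    Finset.sum_const, Finset.sum_const, nsmul_one, nsmul_one]
  linear_combination T.card_series hodd + cross_halves (T.a_sum_unip hodd hy) (T.a_sum_unip hodd hz) +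
    cross_halves_neg (T.b_sum_unip hodd hy) (T.b_sum_unip hodd hz)

/-- The two fixed parameters, summed at `-1`. -/
theorem sum_princ_neg {y : F} (hy : y ≠ 0) :
    ∑ χ ∈ (slDatum hg).princSet, χ (-1 * el 1 y) * conj (χ (el 1 y)) =
      -(1 + (μ₀ (-1) : ℂ)) / 2 := by
  classical
  letI : Fintype (Fˣ →* ℂˣ) := Fintype.ofFinite _
  let U := Finset.univ.filter fun μ : Fˣ →* ℂˣ => μ.comp (slDatum hg).τ ≠ μ
  have hset : (slDatum hg).princSet = U.image (slDatum hg).R := by
    ext χ
    simp [U, Datum.mem_princSet, eq_comm]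
  have h2 := two_mul_sum_image U (fun μ => μ.comp (slDatum hg).τ) (slDatum hg).R (fun μ hμ => by
    rw [Finset.mem_filter] at hμ ⊢
    exact ⟨⟨Finset.mem_univ _, by rw [(slDatum hg).comp_τ_τ]; exact Ne.symm hμ.2⟩, hμ.2⟩)
    (fun μ _ ν _ => (slDatum hg).R_eq_iff) fun χ => χ (-1 * el 1 y) * conj (χ (el 1 y))
  have hval : ∀ μ ∈ U, (slDatum hg).R μ (-1 * el 1 y) * conj ((slDatum hg).R μ (el 1 y)) = (μ (-1) : ℂ) := by
    intro μ hμ
    have h1 : (slDatum hg).R μ (el 1 y) = 1 :=
      princ_unip ((slDatum hg).mem_princSet.mpr ⟨μ, (Finset.mem_filter.mp hμ).2, rfl⟩) hy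
    have h0 := (slDatum hg).R_mul_center μ ⟨-1, neg_one_fixed hg⟩ (el 1 y)
    rw [← el_neg_one]
    show (slDatum hg).R μ (((slDatum hg).e (-1, (slDatum hg).o) : SLtwo F) * el 1 y) * _ = _
    rw [h0, h1, map_one, mul_one, mul_one]
  have hsplit := Finset.sum_filter_add_sum_filter_not Finset.univ
    (fun μ : Fˣ →* ℂˣ => μ.comp (slDatum hg).τ ≠ μ) (fun μ : Fˣ →* ℂˣ => (μ (-1) : ℂ))
  have hfix : Finset.univ.filter (fun μ : Fˣ →* ℂˣ => ¬μ.comp (slDatum hg).τ ≠ μ) = {1, μ₀} := by
    refine (Finset.eq_of_subset_of_card_le ?_ ?_).symm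
    · intro μ hμ
      simp only [Finset.mem_insert, Finset.mem_singleton] at hμ
      rcases hμ with rfl | rfl
      · simp only [Finset.mem_filter, Finset.mem_univ, true_and, ne_eq, not_not]
        exact MonoidHom.ext fun _ => by simp
      · simp only [Finset.mem_filter, Finset.mem_univ, true_and, ne_eq, not_not]
        exact T.hμ
    · rw [Finset.card_pair (Ne.symm T.hμ1)]
      have h := card_fixed_mu hg
      obtain ⟨k, hk⟩ := hodd
      rw [Nat.card_eq_fintype_card, Fintype.card_subtype, hk,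
        show 2 * k + 1 - 1 = 2 * k by omega, Nat.gcd_eq_right (dvd_mul_right 2 k)] at h
      refine le_of_eq ?_
      simpa only [ne_eq, not_not] using h
  have hne : (-1 : Fˣ) ≠ 1 := fun he => two_ne_zero_iff_odd.2 hodd (by
    have := congrArg (fun z : Fˣ => (z : F)) he
    simp only [Units.val_neg, Units.val_one] at this
    linear_combination -this)
  rw [hfix, Finset.sum_pair (Ne.symm T.hμ1), sum_homs_apply, if_neg hne, MonoidHom.one_apply,
    Units.val_one] at hsplit
  rw [Finset.sum_congr rfl hval, ← hset] at h2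
  linear_combination (h2 + hsplit) / 2

theorem sum_disc_neg {y : F} (hy : y ≠ 0) :
    ∑ χ ∈ (slDatum hg).discSet, χ (-1 * el 1 y) * conj (χ (el 1 y)) =
      -(1 - (μ₀ (-1) : ℂ)) / 2 := by
  classical
  letI : CommGroup (slDatum hg).C := { (inferInstance : Group (slDatum hg).C) with mul_comm := (slDatum hg).C_comm }
  letI : Fintype ((slDatum hg).C →* ℂˣ) := Fintype.ofFinite _
  let U := Finset.univ.filter fun θ : (slDatum hg).C →* ℂˣ => θ.comp (slDatum hg).σ ≠ θ
  have hset : (slDatum hg).discSet = U.image (slDatum hg).piC := by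
    ext χ
    simp [U, Datum.mem_discSet, eq_comm]
  have h2 := two_mul_sum_image U (fun θ => θ.comp (slDatum hg).σ) (slDatum hg).piC (fun θ hθ => by
    rw [Finset.mem_filter] at hθ ⊢
    exact ⟨⟨Finset.mem_univ _, by rw [(slDatum hg).comp_σ_σ]; exact Ne.symm hθ.2⟩, hθ.2⟩)
    (fun θ _ θ' _ => (slDatum hg).pi_eq_iff ((slDatum hg).compatChoice_spec θ) ((slDatum hg).compatChoice_spec θ'))
    fun χ => χ (-1 * el 1 y) * conj (χ (el 1 y))
  have hval : ∀ θ ∈ U, (slDatum hg).piC θ (-1 * el 1 y) * conj ((slDatum hg).piC θ (el 1 y)) = (θ (negC hg) : ℂ) := by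
    intro θ hθ
    have h1 : (slDatum hg).piC θ (el 1 y) = -1 :=
      disc_unip ((slDatum hg).mem_discSet.mpr ⟨θ, (Finset.mem_filter.mp hθ).2, rfl⟩) hy
    have h0 := (slDatum hg).piC_mul_center θ ⟨-1, neg_one_fixed hg⟩ (el 1 y)
    rw [← el_neg_one]
    show (slDatum hg).piC θ (((slDatum hg).e (-1, (slDatum hg).o) : SLtwo F) * el 1 y) * _ = _
    rw [h0, h1, map_neg, map_one, mul_neg_one, mul_neg_one, neg_neg]
    rfl
  have hsplit := Finset.sum_filter_add_sum_filter_not Finset.univ
    (fun θ : (slDatum hg).C →* ℂˣ => θ.comp (slDatum hg).σ ≠ θ) (fun θ : (slDatum hg).C →* ℂˣ => (θ (negC hg) : ℂ))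
  have hfix : Finset.univ.filter (fun θ : (slDatum hg).C →* ℂˣ => ¬θ.comp (slDatum hg).σ ≠ θ) = {1, θ₀} := by
    refine (Finset.eq_of_subset_of_card_le ?_ ?_).symm
    · intro θ hθ
      simp only [Finset.mem_insert, Finset.mem_singleton] at hθ
      rcases hθ with rfl | rfl
      · simp only [Finset.mem_filter, Finset.mem_univ, true_and, ne_eq, not_not]
        exact MonoidHom.ext fun _ => by simp
      · simp only [Finset.mem_filter, Finset.mem_univ, true_and, ne_eq, not_not]
        exact T.hθ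
    · rw [Finset.card_pair (Ne.symm T.hθ1)]
      have h := card_fixed_theta hg
      obtain ⟨k, hk⟩ := hodd
      rw [Nat.card_eq_fintype_card, Fintype.card_subtype, hk,
        show 2 * k + 1 + 1 = 2 * (k + 1) by omega, Nat.gcd_eq_right (dvd_mul_right 2 _)] at h
      refine le_of_eq ?_
      simpa only [ne_eq, not_not] using h
  have hne : negC hg ≠ 1 := fun he => neg_one_ne_one (two_ne_zero_iff_odd.2 hodd) (by
    have := congrArg (fun c : (slDatum hg).C => (c : SLtwo F)) he
    rwa [negC_val] at this)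
  rw [hfix, Finset.sum_pair (Ne.symm T.hθ1), sum_homs_apply, if_neg hne, MonoidHom.one_apply,
    Units.val_one, (fixed_apply_neg_one hg hodd T.hμ T.hμ1 T.hθ T.hθ1).2] at hsplit
  rw [Finset.sum_congr rfl hval, ← hset] at h2
  linear_combination (h2 + hsplit) / 2

theorem normSq_unip {y : F} (hy : y ≠ 0) :
    Complex.normSq (2 * a (el 1 y) - 1) = qF ∧ Complex.normSq (2 * b (el 1 y) + 1) = qF := by
  have h2 : (2 : F) ≠ 0 := two_ne_zero_iff_odd.2 hodd
  have hin : (1 : Fˣ)⁻¹ = 1 := inv_one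
  have h := Chars.column_orthogonality_of_isConj (IsConj.refl (el 1 y : SLtwo F))
  rw [T.unip_cross hodd hy hy, card_centralizer_parabolic (el_notMem_center hin hy)
    (el_parab_tr y hin), Complex.mul_conj, Complex.mul_conj] at h
  have hgcd : Nat.gcd 2 (qF - 1) = 2 := Nat.gcd_eq_left (by obtain ⟨k, hk⟩ := hodd; exact ⟨k, by omega⟩)
  rw [hgcd, Nat.cast_mul, Nat.cast_ofNat] at h
  have e1 : Complex.normSq (2 * a (el 1 y) - 1) + Complex.normSq (2 * b (el 1 y) + 1) = 2 * qF := by
    apply Complex.ofReal_injective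
    push_cast
    linear_combination 2 * h
  -- against the product with `-1`
  have hnc : ¬IsConj (-1 * el 1 y : SLtwo F) (el 1 y) := fun hc => by
    have := tr_eq_of_isConj hc
    have ht : tr (el (1 : Fˣ) y) = 2 := by
      rw [tr, borelEquiv_00, borelEquiv_11, inv_one, Units.val_one]; norm_num
    rw [neg_one_mul, tr_neg, ht] at this
    exact two_ne_neg_two h2 this.symm
  have h' := Chars.column_orthogonality_of_not_isConj hnc
  rw [T.sum_irr (fun χ => χ (-1 * el 1 y) * conj (χ (el 1 y))), T.a_central, T.a'_central,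
    T.b_central, T.b'_central, St_parab hg 1 inv_one hy, map_zero, mul_zero, map_one, mul_one,
    mul_assoc ((μ₀ (-1) : ℂ)), mul_assoc ((μ₀ (-1) : ℂ)),
    mul_assoc (-(μ₀ (-1) : ℂ)), mul_assoc (-(μ₀ (-1) : ℂ)), Complex.mul_conj, Complex.mul_conj,
    Complex.mul_conj, Complex.mul_conj, T.sum_princ_neg hodd hy, T.sum_disc_neg hodd hy] at h'
  have ha := normSq_halves (T.a_sum_unip hodd hy)
  have hb := normSq_halves_neg (T.b_sum_unip hodd hy)
  have hεε : (μ₀ (-1) : ℂ) * (μ₀ (-1) : ℂ) = 1 := by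
    rw [← Units.val_mul, ← map_mul, neg_mul_neg, one_mul, map_one, Units.val_one]
  have h'' : (μ₀ (-1) : ℂ) * ((((Complex.normSq (a (el 1 y)) + Complex.normSq (a' (el 1 y))) -
      (Complex.normSq (b (el 1 y)) + Complex.normSq (b' (el 1 y)))) : ℝ) : ℂ) = 0 := by
    push_cast
    linear_combination h'
  have h3 := (mul_eq_zero.mp h'').resolve_left fun h0 => by
    rw [h0, mul_zero] at hεε
    exact zero_ne_one hεε
  rw [Complex.ofReal_eq_zero, ha, hb] at h3
  constructor <;> linarith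

end OddTable

end Cfsg.Agent.Lib.RankSeries
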